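import Cfsg.Agent.H901.EP.Lower

/-!
# S3499, row `J2` in `Sp6(q)`: characteristic 7 (helper901)
-/

set_option autoImplicit false
set_option linter.unusedSectionVars false

open Polynomial Matrix Cfsg
open scoped MatrixGroups

namespace Cfsg.Agent.H901.EP

section seven
variable {F : Type*} [Field F] [CharP F 7] {m : ℕ}
variable {Y : GL (Fin m ⊕ Fin m) F} {hY : Y ∈ spGL m F} {h7 : Y ^ 7 = 1}

/-- the skew polynomial -/
noncomputable def g7 (c : F) : F[X] := gc (c, 0, 0)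

theorem g7_eq (c : F) : g7 c = C c * (X - X ^ 6) := by
  simp [g7, gc]

theorem g7_pow (h7 : Y ^ 7 = 1) (c : F) : aeval Y.1 (g7 c) ^ 7 = 0 := by
  have : Fact (Nat.Prime 7) := ⟨by norm_num⟩
  have h7' : (Y.1) ^ 7 = 1 := by rw [← Units.val_pow_eq_pow_val, h7]; rfl
  have h1 : (g7 c) ^ 7 = C (c ^ 7) * (X ^ 7 - (X ^ 7) ^ 6) := by
    rw [g7_eq, mul_pow, sub_pow_char, ← C_pow, ← pow_mul, ← pow_mul]
  rw [← map_pow, h1, map_mul, map_sub, map_pow (aeval Y.1) (X ^ 7) 6, map_pow (aeval Y.1) X 7, aeval_X, h7', one_pow,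
    sub_self, mul_zero]

theorem exists_t (h7 : Y ^ 7 = 1) (c : F) : ∃ t : wg Y hY h7, t.1.1 * (1 - aeval Y.1 (g7 c)) = 1 + aeval Y.1 (g7 c) := by
  have h7' : (Y.1) ^ 7 = 1 := by rw [← Units.val_pow_eq_pow_val, h7]; rfl
  have hk : (1 - aeval Y.1 (g7 c)) * aeval Y.1 (∑ i ∈ Finset.range 7, g7 c ^ i) = 1 := by
    have h1 : (1 - g7 c) * (∑ i ∈ Finset.range 7, g7 c ^ i) = 1 - g7 c ^ 7 := mul_neg_geom_sum _ _
    have h2 := congrArg (aeval Y.1) h1
    rw [map_mul, map_sub, map_one, map_sub, map_one, map_pow, g7_pow h7, sub_zero] at h2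
    exact h2
  obtain ⟨t, ht, ht2⟩ := cayley (hY := hY) (h7 := h7) (g := g7 c) (by
    rw [Polynomial.aeval_comp, map_pow, aeval_X]
    exact gc_six h7' _) hk
  exact ⟨⟨t, ht⟩, ht2⟩

theorem t_pow {c : F} {t : wg Y hY h7} (ht : t.1.1 * (1 - aeval Y.1 (g7 c)) = 1 + aeval Y.1 (g7 c)) : t ^ 7 = 1 := by
  have : Fact (Nat.Prime 7) := ⟨by norm_num⟩
  have h1 : (1 - g7 c) ^ 7 = 1 - g7 c ^ 7 := by rw [sub_pow_char, one_pow]
  have h2 : (1 + g7 c) ^ 7 = 1 + g7 c ^ 7 := by rw [add_pow_char, one_pow]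
  have h3 := congrArg (aeval Y.1) h1
  have h4 := congrArg (aeval Y.1) h2
  rw [map_pow, map_sub, map_one, map_sub, map_one, map_pow, g7_pow h7, sub_zero] at h3
  rw [map_pow, map_add, map_one, map_add, map_one, map_pow, g7_pow h7, add_zero] at h4
  obtain ⟨f, hf⟩ := t.2.2
  have hc : Commute t.1.1 (1 - aeval Y.1 (g7 c)) := by
    rw [hf, ← map_one (aeval (R := F) Y.1), ← map_sub]
    show _ * _ = _ * _
    rw [← map_mul, ← map_mul, mul_comm]
  have h5 := hc.mul_pow 7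
  rw [ht, h4, h3, mul_one] at h5
  apply Subtype.ext
  apply Units.ext
  exact h5.symm

/-- the Cayley transform determines the skew element -/
theorem skew_eq (h2 : (2 : F) ≠ 0) {a b : Matrix (Fin m ⊕ Fin m) (Fin m ⊕ Fin m) F} {t : Matrix (Fin m ⊕ Fin m) (Fin m ⊕ Fin m) F}
    (hc : t * (1 - a) = 1 + a) (hd : t * (1 - b) = 1 + b) : a = b := by
  have h3 : (t + 1) * a = (t + 1) * b := by
    have e1 : (t + 1) * a = t - 1 := by
      have : t - t * a = 1 + a := by rw [← hc]; noncomm_ring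
      rw [sub_eq_iff_eq_add] at this
      calc (t + 1) * a = (1 + a + t * a) - 1 := by rw [add_mul, one_mul]; abel
        _ = t - 1 := by rw [← this]
    have e2 : (t + 1) * b = t - 1 := by
      have : t - t * b = 1 + b := by rw [← hd]; noncomm_ring
      rw [sub_eq_iff_eq_add] at this
      calc (t + 1) * b = (1 + b + t * b) - 1 := by rw [add_mul, one_mul]; abel
        _ = t - 1 := by rw [← this]
    rw [e1, e2]
  have h5 : (t + 1) * (1 - a) = (2 : F) • (1 : Matrix (Fin m ⊕ Fin m) (Fin m ⊕ Fin m) F) := by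
    rw [add_mul, hc, one_mul, two_smul]; abel
  have h6 : ((2 : F)⁻¹ • (1 - a)) * (t + 1) = 1 := by
    apply mul_eq_one_comm.1
    rw [mul_smul_comm, h5, smul_smul, inv_mul_cancel₀ h2, one_smul]
  calc a = ((2 : F)⁻¹ • (1 - a)) * (t + 1) * a := by rw [h6, one_mul]
    _ = ((2 : F)⁻¹ • (1 - a)) * (t + 1) * b := by rw [mul_assoc, h3, mul_assoc]
    _ = b := by rw [h6, one_mul]

/-- a polynomial relation of a nontrivial unipotent element -/
theorem deriv_zero (hne : Y ≠ 1) (h7 : Y ^ 7 = 1) {P : F[X]} (hP : aeval Y.1 P = 0) : (derivative P).eval 1 = 0 := by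
  have : Fact (Nat.Prime 7) := ⟨by norm_num⟩
  have h7' : (Y.1) ^ 7 = 1 := by rw [← Units.val_pow_eq_pow_val, h7]; rfl
  have h1 : aeval Y.1 ((X - C 1 : F[X]) ^ 7) = 0 := by
    rw [sub_pow_char, map_sub, map_pow, aeval_X, h7', map_pow, aeval_C, map_one, one_pow, sub_self]
  have h2 : minpoly F Y.1 ∣ (X - C 1 : F[X]) ^ 7 := minpoly.dvd F _ h1
  obtain ⟨k, -, hk⟩ := (dvd_prime_pow (Polynomial.prime_X_sub_C (1 : F)) 7).1 h2
  have hk2 : 2 ≤ k := by
    by_contra hk2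
    apply hne
    apply Units.ext
    have h3 : (X - C 1 : F[X]) ^ k ∣ (X - C 1 : F[X]) := by
      have : (X - C 1 : F[X]) ^ k ∣ (X - C 1 : F[X]) ^ 1 := pow_dvd_pow _ (by omega)
      rwa [pow_one] at this
    obtain ⟨r, hr⟩ := hk.dvd.trans h3
    have h4 := congrArg (aeval Y.1) hr
    rw [map_mul, minpoly.aeval, zero_mul, map_sub, aeval_X, aeval_C, map_one, sub_eq_zero] at h4
    exact h4
  obtain ⟨R, hR⟩ := ((pow_dvd_pow (X - C 1 : F[X]) hk2).trans hk.symm.dvd).trans (minpoly.dvd F _ hP)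
  rw [hR]
  simp [derivative_mul, derivative_pow]

/-- **separation** -/
theorem sep (hne : Y ≠ 1) (h2 : (2 : F) ≠ 0) {b : GL (Fin m ⊕ Fin m) F} (hbS : b ∈ spGL m F) (hb : b * Y * b⁻¹ = Y ^ 2)
    {c d : F} {t s : wg Y hY h7} (ht : t.1.1 * (1 - aeval Y.1 (g7 c)) = 1 + aeval Y.1 (g7 c))
    (hs : s.1.1 * (1 - aeval Y.1 (g7 d)) = 1 + aeval Y.1 (g7 d))
    (hts : t⁻¹ * ⟨b * t.1 * b⁻¹, conj_mem hbS hb t.2⟩ = s⁻¹ * ⟨b * s.1 * b⁻¹, conj_mem hbS hb s.2⟩) : c = d := by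
  have h7' : (Y.1) ^ 7 = 1 := by rw [← Units.val_pow_eq_pow_val, h7]; rfl
  obtain ⟨f, hf⟩ := t.2.2
  obtain ⟨g, hg⟩ := s.2.2
  have hf' := conj_poly hb hf
  have hg' := conj_poly hb hg
  -- the relation of the conjugates
  have hconj : ∀ (e : F) (r : wg Y hY h7), r.1.1 * (1 - aeval Y.1 (g7 e)) = 1 + aeval Y.1 (g7 e) →
      (b * r.1 * b⁻¹).1 * (1 - aeval Y.1 ((g7 e).comp (X ^ 2))) = 1 + aeval Y.1 ((g7 e).comp (X ^ 2)) := by
    intro e r hr
    obtain ⟨f, hf⟩ := r.2.2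
    rw [conj_poly hb hf]
    rw [hf, ← map_one (aeval (R := F) Y.1), ← map_sub, ← map_mul, ← map_add] at hr
    rw [← map_one (aeval (R := F) Y.1), ← map_sub, ← map_mul, ← map_add]
    have key : ∀ p : F[X], aeval Y.1 (p.comp (X ^ 2)) = b.1 * aeval Y.1 p * (b⁻¹).1 := by
      intro p
      rw [Polynomial.aeval_comp, map_pow, aeval_X]
      have hb1 : b.1 * (b⁻¹).1 = 1 := by rw [← Units.val_mul, mul_inv_cancel]; rfl
      have hb2 : (b⁻¹).1 * b.1 = 1 := by rw [← Units.val_mul, inv_mul_cancel]; rfl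
      have hp : ∀ n : ℕ, b.1 * Y.1 ^ n * (b⁻¹).1 = (Y.1 ^ 2) ^ n := by
        intro n
        have e0 : Y.1 ^ 2 = b.1 * Y.1 * (b⁻¹).1 := by
          rw [← Units.val_pow_eq_pow_val, ← hb]; rfl
        rw [e0]
        induction n with
        | zero => rw [pow_zero, pow_zero, mul_one, hb1]
        | succ n ih =>
          rw [pow_succ, pow_succ, ← ih]
          calc b.1 * (Y.1 ^ n * Y.1) * (b⁻¹).1 = b.1 * Y.1 ^ n * 1 * (Y.1 * (b⁻¹).1) := by
                rw [mul_one]; simp only [mul_assoc]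
            _ = b.1 * Y.1 ^ n * ((b⁻¹).1 * b.1) * (Y.1 * (b⁻¹).1) := by rw [hb2]
            _ = _ := by simp only [mul_assoc]
      induction p using Polynomial.induction_on' with
      | add f g hf hg => rw [map_add, map_add, mul_add, add_mul, hf, hg]
      | monomial n a =>
        rw [aeval_monomial, aeval_monomial, Algebra.algebraMap_eq_smul_one, smul_mul_assoc, one_mul, ← hp,
          smul_mul_assoc, one_mul, mul_smul_comm, smul_mul_assoc]
    have e1 : f.comp (X ^ 2) * (1 - (g7 e).comp (X ^ 2)) = (f * (1 - g7 e)).comp (X ^ 2) := by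
      rw [mul_comp, sub_comp, one_comp]
    have e2 : (1 : F[X]) + (g7 e).comp (X ^ 2) = (1 + g7 e).comp (X ^ 2) := by rw [add_comp, one_comp]
    rw [e1, e2, key, key, hr]
  have ht' := hconj c t ht
  have hs' := hconj d s hs
  -- into a commutative ring
  have hmul : (b * t.1 * b⁻¹).1 * s.1.1 = t.1.1 * (b * s.1 * b⁻¹).1 := by
    have h3 : t * (t⁻¹ * ⟨b * t.1 * b⁻¹, conj_mem hbS hb t.2⟩) * s = t * (s⁻¹ * ⟨b * s.1 * b⁻¹, conj_mem hbS hb s.2⟩) * s := by
      rw [hts]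
    rw [mul_inv_cancel_left] at h3
    have h4 : t * (s⁻¹ * ⟨b * s.1 * b⁻¹, conj_mem hbS hb s.2⟩) * s = t * ⟨b * s.1 * b⁻¹, conj_mem hbS hb s.2⟩ := by
      have h5 : (⟨b * s.1 * b⁻¹, conj_mem hbS hb s.2⟩ : wg Y hY h7) * s = s * ⟨b * s.1 * b⁻¹, conj_mem hbS hb s.2⟩ :=
        Subtype.ext (wg_comm (conj_mem hbS hb s.2) s.2)
      rw [mul_assoc, mul_assoc, h5, inv_mul_cancel_left]
    rw [h4] at h3
    exact congrArg (fun z : wg Y hY h7 => z.1.1) h3
  rw [hf', hg', hf, hg, ← map_mul, ← map_mul] at hmul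
  rw [hf, ← map_one (aeval (R := F) Y.1), ← map_sub, ← map_mul, ← map_add] at ht
  rw [hg, ← map_one (aeval (R := F) Y.1), ← map_sub, ← map_mul, ← map_add] at hs
  rw [hf', ← map_one (aeval (R := F) Y.1), ← map_sub, ← map_mul, ← map_add] at ht'
  rw [hg', ← map_one (aeval (R := F) Y.1), ← map_sub, ← map_mul, ← map_add] at hs'
  let I : Ideal F[X] := RingHom.ker (aeval Y.1 : F[X] →ₐ[F] Matrix (Fin m ⊕ Fin m) (Fin m ⊕ Fin m) F)
  have hq : ∀ u v : F[X], aeval Y.1 u = aeval Y.1 v ↔ Ideal.Quotient.mk I u = Ideal.Quotient.mk I v := by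
    intro u v
    rw [Ideal.Quotient.eq, RingHom.mem_ker, map_sub, sub_eq_zero]
  rw [hq] at ht hs ht' hs' hmul
  let P : F[X] := (1 + (g7 c).comp (X ^ 2)) * (1 + g7 d) * (1 - g7 c) * (1 - (g7 d).comp (X ^ 2)) -
    (1 + g7 c) * (1 + (g7 d).comp (X ^ 2)) * (1 - (g7 c).comp (X ^ 2)) * (1 - g7 d)
  have hP : aeval Y.1 P = 0 := by
    have h3 : Ideal.Quotient.mk I P = Ideal.Quotient.mk I 0 := by
      simp only [P, map_sub, map_mul]
      rw [← ht, ← hs, ← ht', ← hs']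
      simp only [map_sub, map_mul, map_one, map_zero] at hmul ⊢
      linear_combination (1 - Ideal.Quotient.mk I ((g7 c).comp (X ^ 2))) * (1 - Ideal.Quotient.mk I (g7 d)) *
        (1 - Ideal.Quotient.mk I (g7 c)) * (1 - Ideal.Quotient.mk I ((g7 d).comp (X ^ 2))) * hmul
    rw [← hq] at h3
    rw [h3, map_zero]
  have h4 := deriv_zero hne h7 hP
  have h5 : (derivative P).eval 1 = 4 * (c - d) := by
    simp only [P, g7_eq, mul_comp, sub_comp, pow_comp, X_comp, C_comp]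
    simp only [derivative_sub, derivative_add, derivative_mul, derivative_one, derivative_C, derivative_X,
      derivative_pow, eval_add, eval_sub, eval_mul, eval_pow, eval_X, eval_C, eval_one, eval_zero]
    norm_num
    have h70 : (7 : F) = 0 := by
      have := CharP.cast_eq_zero F 7
      exact_mod_cast this
    linear_combination (2 * (d - c)) * h70
  rw [h5] at h4
  have h6 : (4 : F) ≠ 0 := by
    have : (4 : F) = 2 * 2 := by norm_num
    rw [this]
    exact mul_ne_zero h2 h2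
  exact sub_eq_zero.1 ((mul_eq_zero.1 h4).resolve_left h6)

end seven

end Cfsg.Agent.H901.EP
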