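import Cfsg.Agent.H901.EP.Lower

/-!
# S3499, row `J2` in `Sp6(q)`: the case `q = 5` (helper901)
-/

set_option autoImplicit false
set_option linter.unusedSectionVars false

open Polynomial Matrix Cfsg
open scoped MatrixGroups

namespace Cfsg.Agent.H901.EP

section five
variable {F : Type*} [Field F] {m : ℕ} {K : Type*} [Field K] [Algebra F K]

/-- Frobenius and polynomials -/
theorem aeval_pow [Finite F] (z : K) (f : F[X]) : aeval z f ^ Nat.card F = aeval (z ^ Nat.card F) f := by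
  have := Fintype.ofFinite F
  rw [Nat.card_eq_fintype_card, ← map_pow, ← FiniteField.expand_card, Polynomial.expand_aeval]

variable {Y : GL (Fin m ⊕ Fin m) F} {hY : Y ∈ spGL m F} {h7 : Y ^ 7 = 1} {ζ : K} (h : Sev K Y.1 ζ)
include h

/-- for `q = 5` every parameter is good -/
theorem good_five [Finite F] (hq : Nat.card F = 5) (h2 : (2 : F) ≠ 0) (c : F × F × F) : Good ζ c := by
  intro j hj h0
  have hstep : ∀ i : ℕ, aeval (ζ ^ i) (gc c) = 1 → aeval (ζ ^ (5 * i)) (gc c) = 1 := by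
    intro i hi
    have h1 := aeval_pow (ζ ^ i) (gc c)
    rw [hi, one_pow, hq, ← pow_mul, mul_comm i 5] at h1
    exact h1.symm
  have h1 := hstep _ (hstep _ (hstep _ h0))
  have h3 : ζ ^ (5 * (5 * (5 * j))) = (ζ ^ j) ^ 6 := by
    rw [← pow_mul]
    apply h.hmod
    omega
  have h4 : (ζ ^ j) ^ 7 = 1 := by rw [← pow_mul, mul_comm, pow_mul, h.seven, one_pow]
  rw [h3, gc_six h4, h0] at h1
  apply h2
  have h5 : (algebraMap F K) 2 = 0 := by
    have : (algebraMap F K) 2 = 1 + 1 := by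
      have h6 : (2 : F) = 1 + 1 := by norm_num
      rw [h6, map_add, map_one]
    rw [this]
    linear_combination (-1 : K) * h1
  exact (algebraMap F K).injective (h5.trans (map_zero _).symm)

theorem card_wg_five [Finite F] (hq : Nat.card F = 5) (hm : m = 3) (h2 : (2 : F) ≠ 0) :
    125 ≤ Nat.card (wg Y hY h7) := by
  refine le_trans (le_of_eq ?_) (card_good h (hY := hY) (h7 := h7) hm h2)
  have h1 : {c : F × F × F | Good ζ c} = Set.univ := Set.eq_univ_of_forall fun c => good_five h hq h2 c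
  rw [h1, Set.ncard_univ, Nat.card_prod, Nat.card_prod, hq]

/-- for `q = 5` there are only two elements of square one -/
theorem card_sq_five [Finite F] (hq : Nat.card F = 5) (hm : m = 3) : {a : wg Y hY h7 | a * a = 1}.ncard ≤ 2 := by
  have hpm : ∀ (c : wg Y hY h7), c * c = 1 → ∀ (j : ℕ) (hj : ¬ 7 ∣ j), V h j hj c = 1 ∨ V h j hj c = -1 := by
    intro c hc j hj
    have h1 : V h j hj c * V h j hj c = 1 := by rw [← map_mul, hc, map_one]
    exact mul_self_eq_one_iff.1 h1
  have hfrob : ∀ (a : wg Y hY h7), a * a = 1 → ∀ (j : ℕ) (hj : ¬ 7 ∣ j) (hj5 : ¬ 7 ∣ 5 * j),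
      V h (5 * j) hj5 a = V h j hj a := by
    intro a ha j hj hj5
    obtain ⟨f, hf⟩ := a.2.2
    have h1 := aeval_pow (ζ ^ j) f
    rw [hq, ← pow_mul, mul_comm j 5, ← V_eq h (hj := hj) hf, ← V_eq h (hj := hj5) hf] at h1
    rw [← h1]
    rcases hpm a ha j hj with h3 | h3
    · rw [h3, one_pow]
    · rw [h3]; norm_num
  have hall : ∀ (a : wg Y hY h7), a * a = 1 → ∀ i : ℕ, ∀ hi : ¬ 7 ∣ 5 ^ i, V h (5 ^ i) hi a = V h 1 (by norm_num) a := by
    intro a ha i
    induction i with
    | zero => intro hi; exact V_congr h (by norm_num) a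
    | succ i ih =>
      intro hi
      have h5i : ¬ 7 ∣ 5 ^ i := fun h => hi (h.trans (pow_dvd_pow _ (Nat.le_succ i)))
      rw [← ih h5i, ← hfrob a ha _ h5i (by rw [← pow_succ']; exact hi)]
      exact V_congr h (by rw [pow_succ']) a
  have hall' : ∀ (a : wg Y hY h7), a * a = 1 → ∀ (j : ℕ) (hj : ¬ 7 ∣ j), V h j hj a = V h 1 (by norm_num) a := by
    intro a ha j hj
    have h60 : j % 7 = 1 ∨ j % 7 = 2 ∨ j % 7 = 3 ∨ j % 7 = 4 ∨ j % 7 = 5 ∨ j % 7 = 6 := by omega
    rcases h60 with h60 | h60 | h60 | h60 | h60 | h60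
    · rw [V_congr h (i := j) (j := 5 ^ 0) (hj := by norm_num) (by rw [h60]; norm_num) a]; exact hall a ha 0 _
    · rw [V_congr h (i := j) (j := 5 ^ 4) (hj := by norm_num) (by rw [h60]; norm_num) a]; exact hall a ha 4 _
    · rw [V_congr h (i := j) (j := 5 ^ 5) (hj := by norm_num) (by rw [h60]; norm_num) a]; exact hall a ha 5 _
    · rw [V_congr h (i := j) (j := 5 ^ 2) (hj := by norm_num) (by rw [h60]; norm_num) a]; exact hall a ha 2 _
    · rw [V_congr h (i := j) (j := 5 ^ 1) (hj := by norm_num) (by rw [h60]; norm_num) a]; exact hall a ha 1 _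
    · rw [V_congr h (i := j) (j := 5 ^ 3) (hj := by norm_num) (by rw [h60]; norm_num) a]; exact hall a ha 3 _
  have hinj : Set.InjOn (fun a : wg Y hY h7 => V h 1 (by norm_num) a) {a : wg Y hY h7 | a * a = 1} := by
    intro a ha b hb hab
    apply V_inj h hm
    intro j hj
    rw [hall' a ha j hj, hall' b hb j hj]
    exact hab
  calc {a : wg Y hY h7 | a * a = 1}.ncard ≤ ({1, -1} : Set K).ncard :=
        Set.ncard_le_ncard_of_injOn _ (fun a ha => hpm a ha 1 (by norm_num)) hinj (Set.toFinite _)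
    _ ≤ 2 := (Set.ncard_insert_le _ _).trans (by rw [Set.ncard_singleton])

end five

end Cfsg.Agent.H901.EP
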