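import Cfsg.Agent.H901.EP.J2Facts
import Cfsg.Agent.H901.EP.Five
import Cfsg.Agent.H901.EP.Char7
import Cfsg.Agent.H419.EP.Iface

/-!
# S3499, row `J2` in `Sp6(q)`: the group theoretic part (helper901)
-/

set_option autoImplicit false
set_option linter.unusedSectionVars false

open Subgroup Cfsg.Agent.H284 Cfsg.Agent.H419.EP
open scoped MatrixGroups

namespace Cfsg.Agent.H901.EP

theorem hom_card {G H : Type*} [Group G] [Group H] (f : G →* H) :
    Nat.card G = Nat.card f.range * Nat.card f.ker := by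
  rw [Subgroup.card_eq_card_quotient_mul_card_subgroup f.ker, Nat.card_congr (QuotientGroup.quotientKerEquivRange f).toEquiv]

/-- the numerical hypotheses of (PS) for `J2` and `J2.2` -/
theorem ps_j2 {Q : Type*} [Group Q] [Finite Q] {A : Subgroup Q} {Γ : Subgroup (MulAut Q)} (h : EPT A Γ)
    (hab : ∀ K : Subgroup Q, K ≤ A → (∀ a ∈ A, ∀ k ∈ K, a * k * a⁻¹ ∈ K) → (∀ a ∈ K, ∀ b ∈ K, a * b = b * a) → K = ⊥)
    {y : Q} (hy : orderOf y = 7) (hyA : y ∈ A)
    (hc : (Nat.card A = 604800 ∧ Nat.card (A ⊓ Subgroup.centralizer {y} : Subgroup Q) = 7) ∨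
        (Nat.card A = 1209600 ∧ Nat.card (A ⊓ Subgroup.centralizer {y} : Subgroup Q) ∣ 14))
    {x : Q} (hx : x ∉ A) (hxy : x * y = y * x) :
    ∃ u ∈ A, x⁻¹ * u * x ∈ A ∧ (∃ k : ℕ, u * y * u⁻¹ = y ^ k) ∧ u * y ≠ y * u := by
  have hA : Nat.card A ∣ 1209600 := by
    rcases hc with h | h
    · rw [h.1]; norm_num
    · rw [h.1]
  have hC : Nat.card (A ⊓ Subgroup.centralizer {y} : Subgroup Q) ∣ 14 := by
    rcases hc with h | h
    · rw [h.2]; norm_num
    · exact h.2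
  refine ps h hab (s := 7) (e := 2) (by norm_num) Nat.prime_two (by norm_num) hy hyA ?_ ?_ ?_ hx hxy
  · intro hd
    have := hd.trans hA
    norm_num at this
  · intro l j c hl hl7 hl2 hj hjA hcC hmod
    have hc0 : c = 0 := by
      by_contra hc0
      have h1 : l ∣ 14 := ((dvd_pow_self l hc0).trans hcC).trans hC
      have h3 : (14 : ℕ) = 2 * 7 := by norm_num
      rw [h3, hl.dvd_mul] at h1
      rcases h1 with h1 | h1
      · exact hl2 ((Nat.prime_dvd_prime_iff_eq hl Nat.prime_two).1 h1)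
      · exact hl7 ((Nat.prime_dvd_prime_iff_eq hl (by norm_num)).1 h1)
    rw [hc0, pow_zero] at hmod
    have h1 : l ∣ 1209600 := ((dvd_pow_self l (by omega)).trans hjA).trans hA
    have h2 : l = 3 ∨ l = 5 := by
      have h3 : (1209600 : ℕ) = 2 ^ 8 * (3 ^ 3 * (5 ^ 2 * 7)) := by norm_num
      rw [h3, hl.dvd_mul, hl.dvd_mul, hl.dvd_mul] at h1
      rcases h1 with h1 | h1 | h1 | h1
      · exact absurd ((Nat.prime_dvd_prime_iff_eq hl Nat.prime_two).1 (hl.dvd_of_dvd_pow h1)) hl2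
      · exact Or.inl ((Nat.prime_dvd_prime_iff_eq hl Nat.prime_three).1 (hl.dvd_of_dvd_pow h1))
      · exact Or.inr ((Nat.prime_dvd_prime_iff_eq hl Nat.prime_five).1 (hl.dvd_of_dvd_pow h1))
      · exact absurd ((Nat.prime_dvd_prime_iff_eq hl (by norm_num)).1 h1) hl7
    rcases h2 with rfl | rfl
    · have hj4 : j < 4 := by
        by_contra hj4
        have := (pow_dvd_pow 3 (by omega : 4 ≤ j)).trans (hjA.trans hA)
        norm_num at this
      interval_cases j <;> revert hmod <;> decide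
    · have hj4 : j < 3 := by
        by_contra hj4
        have := (pow_dvd_pow 5 (by omega : 3 ≤ j)).trans (hjA.trans hA)
        norm_num at this
      interval_cases j <;> revert hmod <;> decide
  · intro j c hjA hjA' hcC hmod
    have hc1 : c ≤ 1 := by
      by_contra hc1
      have := (pow_dvd_pow 2 (by omega : 2 ≤ c)).trans (hcC.trans hC)
      norm_num at this
    rcases hc with ⟨h1, h2⟩ | ⟨h1, -⟩
    · rw [h1] at hjA hjA'
      have hj : j = 7 := by
        have hj8 : j < 8 := by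
          by_contra hj4
          have := (pow_dvd_pow 2 (by omega : 8 ≤ j)).trans hjA
          norm_num at this
        by_contra hj7
        apply hjA'
        exact (pow_dvd_pow 2 (by omega : j + 1 ≤ 7)).trans (by norm_num)
      have hc0 : c = 0 := by
        rw [h2] at hcC
        by_contra hc0
        have hc2 : c = 1 := by omega
        rw [hc2] at hcC
        norm_num at hcC
      rw [hj, hc0] at hmod
      revert hmod
      decide
    · rw [h1] at hjA hjA'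
      have hj : j = 8 := by
        have hj8 : j < 9 := by
          by_contra hj4
          have := (pow_dvd_pow 2 (by omega : 9 ≤ j)).trans hjA
          norm_num at this
        by_contra hj7
        apply hjA'
        exact (pow_dvd_pow 2 (by omega : j + 1 ≤ 8)).trans (by norm_num)
      rw [hj] at hmod
      interval_cases c <;> revert hmod <;> decide

section lift
variable {Q : Type*} [Group Q] {F : Type*} [Field F] (m : Model Q (Cfsg.spGL 3 F))

theorem sc_eq {z : GL (Fin 3 ⊕ Fin 3) F} (hz : z ∈ Cfsg.Geo.scalars (Fin 3 ⊕ Fin 3) F) (hzS : z ∈ Cfsg.spGL 3 F) :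
    z = 1 ∨ z = -1 := by
  obtain ⟨c, hc⟩ := (Cfsg.Geo.mem_scalars_iff z).1 hz
  have h1 := mem_spGL_iff.1 hzS
  have h2 : z.1 = (c : F) • (1 : Matrix (Fin 3 ⊕ Fin 3) (Fin 3 ⊕ Fin 3) F) := hc
  rw [h2, st_smul, st_one, smul_mul_smul_comm, one_mul] at h1
  have h3 : (c : F) * c = 1 := by
    have := congrFun (congrFun h1 (Sum.inl 0)) (Sum.inl 0)
    simpa using this
  rcases mul_self_eq_one_iff.1 h3 with h4 | h4
  · left
    apply Units.ext
    rw [h2, h4, one_smul]; rfl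
  · right
    apply Units.ext
    rw [h2, h4, neg_one_smul]; rfl

theorem π_eq {s t : Cfsg.spGL 3 F} (hst : m.π s = m.π t) : (s : GL (Fin 3 ⊕ Fin 3) F) = t ∨ (s : GL (Fin 3 ⊕ Fin 3) F) = -t := by
  obtain ⟨z, hz, e⟩ := (m.π_eq_iff s t).1 hst
  have hzS : z ∈ Cfsg.spGL 3 F := by
    have : z = (t : GL (Fin 3 ⊕ Fin 3) F)⁻¹ * s := by rw [e]; group
    rw [this]
    exact mul_mem (inv_mem t.2) s.2
  rcases sc_eq hz hzS with rfl | rfl
  · left; rw [e, mul_one]
  · right; rw [e, mul_neg, mul_one]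

theorem exists_lift7 {y : Q} (hy : y ^ 7 = 1) :
    ∃ Y : Cfsg.spGL 3 F, m.π Y = y ∧ (Y : GL (Fin 3 ⊕ Fin 3) F) ^ 7 = 1 := by
  obtain ⟨t, rfl⟩ := m.surj y
  refine ⟨t ^ 8, ?_, ?_⟩
  · rw [map_pow, show 8 = 7 + 1 by norm_num, pow_succ, hy, one_mul]
  · have h1 : m.π (t ^ 7) = m.π 1 := by rw [map_pow, hy, map_one]
    have h2 : ((t : GL (Fin 3 ⊕ Fin 3) F) ^ 7) ^ 8 = 1 := by
      rcases π_eq m h1 with h3 | h3
      · have h4 : (t : GL (Fin 3 ⊕ Fin 3) F) ^ 7 = 1 := h3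
        rw [h4, one_pow]
      · have h4 : (t : GL (Fin 3 ⊕ Fin 3) F) ^ 7 = -1 := h3
        rw [h4]
        exact Even.neg_one_pow (by decide)
    show ((t : GL (Fin 3 ⊕ Fin 3) F) ^ 8) ^ 7 = 1
    rw [← pow_mul, mul_comm, pow_mul]
    exact h2

theorem conj_lift (h2 : (2 : F) ≠ 0) {Y b : Cfsg.spGL 3 F} (hY : (Y : GL (Fin 3 ⊕ Fin 3) F) ^ 7 = 1) {k : ℕ}
    (hb : m.π b * m.π Y * (m.π b)⁻¹ = m.π Y ^ k) :
    (b : GL (Fin 3 ⊕ Fin 3) F) * Y * (b : GL (Fin 3 ⊕ Fin 3) F)⁻¹ = (Y : GL (Fin 3 ⊕ Fin 3) F) ^ k := by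
  have h1 : m.π (b * Y * b⁻¹) = m.π (Y ^ k) := by
    rw [map_mul, map_mul, map_inv, map_pow]; exact hb
  rcases π_eq m h1 with h3 | h3
  · exact h3
  · exfalso
    have h3' : (b : GL (Fin 3 ⊕ Fin 3) F) * Y * (b : GL (Fin 3 ⊕ Fin 3) F)⁻¹ = -((Y : GL (Fin 3 ⊕ Fin 3) F) ^ k) := h3
    have h4 : ((b : GL (Fin 3 ⊕ Fin 3) F) * Y * (b : GL (Fin 3 ⊕ Fin 3) F)⁻¹) ^ 7 = 1 := by
      rw [conj_pow, hY, mul_one, mul_inv_cancel]
    rw [h3', Odd.neg_pow (by decide), ← pow_mul, mul_comm, pow_mul, hY, one_pow] at h4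
    have h5 := congrArg (fun g : GL (Fin 3 ⊕ Fin 3) F => g.1 (Sum.inl 0) (Sum.inl 0)) h4
    have h6 : (-1 : F) = 1 := by simpa using h5
    apply h2
    linear_combination -h6
end lift

end Cfsg.Agent.H901.EP
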