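import Cfsg.Agent.H901.EP.RowD
import Cfsg.Agent.H59.EP.UB
import Cfsg.Agent.S1620

/-!
# S3499, row `J2` in `Sp6(q)` (helper901)

`row_j2` : no extremely primitive group with socle `PSp6(q)` has a point stabiliser with socle `J2`.
-/

set_option autoImplicit false
set_option linter.unusedSectionVars false

open Subgroup Cfsg.Agent.H284 Cfsg.Agent.H419.EP
open scoped MatrixGroups

namespace Cfsg.Agent.H901.EP

theorem noAb_j2 {Q : Type*} [Group Q] {A N : Subgroup Q} (hNA : N ≤ A)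
    (hN : ∀ a ∈ A, ∀ n ∈ N, a * n * a⁻¹ ∈ N) (hC : ∀ a ∈ A, (∀ n ∈ N, a * n = n * a) → a = 1)
    (hJ : Cfsg.Spor.IsoJ2 N) :
    ∀ K : Subgroup Q, K ≤ A → (∀ a ∈ A, ∀ k ∈ K, a * k * a⁻¹ ∈ K) → (∀ a ∈ K, ∀ b ∈ K, a * b = b * a) → K = ⊥ := by
  obtain ⟨e⟩ := hJ
  have hs : IsSimpleGroup Cfsg.Spor.J2 := Cfsg.Agent.S1620.result.1
  obtain ⟨a, b, hab⟩ := Cfsg.Agent.S1620.result.2
  have hNs : IsSimpleGroup N := e.isSimpleGroup
  refine Cfsg.Agent.H59.EP.noAb_of_soc hNA hN hNs ?_ hC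
  intro hc
  apply hab
  apply e.symm.injective
  rw [map_mul, map_mul]
  exact Subtype.ext (hc _ (e.symm a).2 _ (e.symm b).2)

section ab
variable {Q : Type*} [Group Q] [Finite Q] {F : Type*} [Field F] [Finite F] (m : Model Q (Cfsg.spGL 3 F))
variable {Y : GL (Fin 3 ⊕ Fin 3) F} {hY : Y ∈ Cfsg.spGL 3 F} {h7 : Y ^ 7 = 1}

theorem card_D1_ker : Nat.card (D1 (Y := Y) (hY := hY) (h7 := h7)).ker = {a : wg Y hY h7 | a * a = 1}.ncard := rfl

theorem card_D2_ker {w : GL (Fin 3 ⊕ Fin 3) F} (hwS : w ∈ Cfsg.spGL 3 F) (hw : w * Y * w⁻¹ = Y ^ 2) :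
    Nat.card (D2 hwS hw (hY := hY) (h7 := h7)).ker = {a : wg Y hY h7 | w * a.1 * w⁻¹ = a.1}.ncard := by
  show ((D2 hwS hw (hY := hY) (h7 := h7)).ker : Set (wg Y hY h7)).ncard = _
  congr 1
  ext a
  show a⁻¹ * σ hwS hw a = 1 ↔ w * a.1 * w⁻¹ = a.1
  rw [inv_mul_eq_one]
  constructor
  · intro h
    exact (congrArg Subtype.val h).symm
  · intro h
    exact Subtype.ext h.symm

theorem card_D1_range {A : Subgroup Q} {y : Q} (hYy : m.π ⟨Y, hY⟩ = y)
    (hC : Nat.card (A ⊓ Subgroup.centralizer {y} : Subgroup Q) ∣ 14)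
    (h1 : ∀ a : wg Y hY h7, φ m (D1 a) ∈ A) : Nat.card (D1 (Y := Y) (hY := hY) (h7 := h7)).range ≤ 28 := by
  refine le_trans (Subgroup.card_le_of_le ?_) (card_hat m (hY := hY) (h7 := h7) (A := A) inferInstance hYy
    (Nat.le_of_dvd (by norm_num) hC))
  rintro _ ⟨a, rfl⟩
  exact h1 a

/-- the common conclusion -/
theorem finish (h2 : (2 : F) ≠ 0) {A : Subgroup Q} {Γ : Subgroup (MulAut Q)} (h : EPT A Γ)
    (hab : ∀ K : Subgroup Q, K ≤ A → (∀ a ∈ A, ∀ k ∈ K, a * k * a⁻¹ ∈ K) → (∀ a ∈ K, ∀ b ∈ K, a * b = b * a) → K = ⊥)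
    {y : Q} (hy : orderOf y = 7) (hyA : y ∈ A)
    (hc : (Nat.card A = 604800 ∧ Nat.card (A ⊓ Subgroup.centralizer {y} : Subgroup Q) = 7) ∨
        (Nat.card A = 1209600 ∧ Nat.card (A ⊓ Subgroup.centralizer {y} : Subgroup Q) ∣ 14))
    (hYy : m.π ⟨Y, hY⟩ = y) {w : GL (Fin 3 ⊕ Fin 3) F} (hwS : w ∈ Cfsg.spGL 3 F) (hw : w * Y * w⁻¹ = Y ^ 2)
    (hwA : m.π ⟨w, hwS⟩ ∈ A) :
    ((∀ a : wg Y hY h7, φ m (D1 a) ∈ A) ∧ Nat.card (D1 (Y := Y) (hY := hY) (h7 := h7)).range ≤ 28) ∨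
    ((∀ a : wg Y hY h7, φ m (D2 hwS hw a) ∈ A) ∧ Nat.card (D2 hwS hw (hY := hY) (h7 := h7)).range ≤ 7) := by
  have hC : Nat.card (A ⊓ Subgroup.centralizer {y} : Subgroup Q) ∣ 14 := by
    rcases hc with h | h
    · rw [h.2]; norm_num
    · exact h.2
  have hcov := cover (S := (A.comap (φ m (hY := hY) (h7 := h7))).comap D1)
    (T := (A.comap (φ m (hY := hY) (h7 := h7))).comap (D2 hwS hw)) (dich m h2 h hab hy hyA hc hYy hwS hw)
  rcases hcov with h1 | h1
  · left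
    have h3 : ∀ a : wg Y hY h7, φ m (D1 a) ∈ A := fun a => by
      have h4 : a ∈ (A.comap (φ m (hY := hY) (h7 := h7))).comap D1 := by rw [h1]; exact mem_top a
      exact h4
    exact ⟨h3, card_D1_range m hYy hC h3⟩
  · right
    have h3 : ∀ a : wg Y hY h7, φ m (D2 hwS hw a) ∈ A := fun a => by
      have h4 : a ∈ (A.comap (φ m (hY := hY) (h7 := h7))).comap (D2 hwS hw) := by rw [h1]; exact mem_top a
      exact h4
    exact ⟨h3, card_D2 m h2 hy hyA hC hYy hwS hw hwA h3⟩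

end ab

/-- numerical form of the condition on `q` -/
theorem q_cases {F : Type*} [Field F] [Fintype F]
    (hq : ∃ p : ℕ, p.Prime ∧ CharP F p ∧ ((Fintype.card F = p ∧ (p % 5 = 0 ∨ p % 5 = 1 ∨ p % 5 = 4)) ∨
      (Fintype.card F = p ^ 2 ∧ p ≠ 2 ∧ (p % 5 = 2 ∨ p % 5 = 3)))) :
    (2 : F) ≠ 0 ∧ ((CharP F 7 ∧ Nat.card F = 49) ∨ ((7 : F) ≠ 0 ∧ (Nat.card F = 5 ∨ 9 ≤ Nat.card F))) := by
  obtain ⟨p, hp, hch, hq⟩ := hq
  have hp2 : p ≠ 2 := by
    rcases hq with h | h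
    · rintro rfl
      omega
    · exact h.2.1
  have h2 : (2 : F) ≠ 0 := by
    intro h
    have h3 : ((2 : ℕ) : F) = 0 := by exact_mod_cast h
    rw [CharP.cast_eq_zero_iff F p] at h3
    exact hp2 ((Nat.prime_dvd_prime_iff_eq hp Nat.prime_two).1 h3)
  refine ⟨h2, ?_⟩
  by_cases hp7 : p = 7
  · left
    subst hp7
    refine ⟨hch, ?_⟩
    rcases hq with h | h
    · omega
    · rw [Nat.card_eq_fintype_card, h.1]; norm_num
  · right
    refine ⟨?_, ?_⟩
    · intro h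
      have h3 : ((7 : ℕ) : F) = 0 := by exact_mod_cast h
      rw [CharP.cast_eq_zero_iff F p] at h3
      exact hp7 ((Nat.prime_dvd_prime_iff_eq hp (by norm_num)).1 h3)
    · rw [Nat.card_eq_fintype_card]
      rcases hq with ⟨h, h'⟩ | ⟨h, -, h'⟩
      · rw [h]
        by_contra hn
        push Not at hn
        obtain ⟨h5, h9⟩ := hn
        interval_cases p <;> first | omega | (revert hp; decide)
      · right
        rw [h]
        have h3 : 3 ≤ p := by
          have := hp.two_le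
          omega
        nlinarith

/-- **row `J2` in `Sp6(q)`** -/
theorem row_j2 {Q : Type*} [Group Q] [Finite Q] {A : Subgroup Q} {Γ : Subgroup (MulAut Q)} (h : EPT A Γ)
    {F : Type*} [Field F] [Fintype F] (m : Model Q (Cfsg.spGL 3 F)) {N : Subgroup Q} (hNA : N ≤ A)
    (hN : ∀ a ∈ A, ∀ n ∈ N, a * n * a⁻¹ ∈ N) (hC : ∀ a ∈ A, (∀ n ∈ N, a * n = n * a) → a = 1)
    (hJ : Cfsg.Spor.IsoJ2 N)
    (hq : ∃ p : ℕ, p.Prime ∧ CharP F p ∧ ((Fintype.card F = p ∧ (p % 5 = 0 ∨ p % 5 = 1 ∨ p % 5 = 4)) ∨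
      (Fintype.card F = p ^ 2 ∧ p ≠ 2 ∧ (p % 5 = 2 ∨ p % 5 = 3)))) : False := by
  obtain ⟨h2, hq⟩ := q_cases hq
  obtain ⟨y, u, hyN, huN, hy, hu, -, hc⟩ := facts hNA hN hC hJ
  have hab := noAb_j2 hNA hN hC hJ
  have hy7 : y ^ 7 = 1 := by rw [← hy, pow_orderOf_eq_one]
  obtain ⟨Y0, hYy, h7⟩ := exists_lift7 m hy7
  obtain ⟨Y, hY⟩ := Y0
  obtain ⟨b, hb⟩ := m.surj u
  have hbY : (b : GL (Fin 3 ⊕ Fin 3) F) * Y * (b : GL (Fin 3 ⊕ Fin 3) F)⁻¹ = Y ^ 3 :=
    conj_lift m h2 (Y := ⟨Y, hY⟩) h7 (by rw [hb, hYy]; exact hu)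
  have h7' : Y ^ 7 = 1 := h7
  have hwS : (b : GL (Fin 3 ⊕ Fin 3) F) ^ 2 ∈ Cfsg.spGL 3 F := pow_mem b.2 2
  have hw : (b : GL (Fin 3 ⊕ Fin 3) F) ^ 2 * Y * ((b : GL (Fin 3 ⊕ Fin 3) F) ^ 2)⁻¹ = Y ^ 2 := by
    have h3 := conj_pow_pow hbY 2
    rw [pow_mod7 (h7 := h7')] at h3
    exact h3
  have hwA : m.π ⟨(b : GL (Fin 3 ⊕ Fin 3) F) ^ 2, hwS⟩ ∈ A := by
    have h3 : m.π ⟨(b : GL (Fin 3 ⊕ Fin 3) F) ^ 2, hwS⟩ = u ^ 2 := by
      rw [← hb, ← map_pow]; rfl
    rw [h3]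
    exact pow_mem (hNA huN) 2
  have hne : Y ≠ 1 := by
    intro h1
    have h3 : y = 1 := by
      rw [← hYy, ← map_one m.π]
      congr 1
      exact Subtype.ext h1
    rw [h3, orderOf_one] at hy
    norm_num at hy
  have hfin := finish m (hY := hY) (h7 := h7') h2 h hab hy (hNA hyN) hc hYy hwS hw hwA
  rcases hq with ⟨hch, hcard⟩ | ⟨h70, hcard⟩
  · -- characteristic 7
    choose t ht using fun c : F => exists_t (hY := hY) h7' c
    rcases hfin with ⟨-, h3⟩ | ⟨-, h3⟩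
    · have hinj : Function.Injective (fun c : F => (⟨D1 (t c), t c, rfl⟩ : (D1 (Y := Y) (hY := hY) (h7 := h7')).range)) := by
        intro c d hcd
        have h4 : t c * t c = t d * t d := congrArg Subtype.val hcd
        have h5 : ∀ c, t c = (t c * t c) ^ 4 := by
          intro c
          have h6 := t_pow (ht c)
          calc t c = t c ^ 7 * t c := by rw [h6, one_mul]
            _ = (t c * t c) ^ 4 := by rw [← pow_succ, ← pow_two, ← pow_mul]
        have h6 : t c = t d := by rw [h5 c, h5 d, h4]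
        have h8 := ht d
        rw [← h6] at h8
        have h9 := skew_eq h2 (ht c) h8
        have h10 : Polynomial.aeval Y.1 (g7 c - g7 d) = 0 := by rw [map_sub, h9, sub_self]
        have h11 := deriv_zero hne h7' h10
        rw [g7_eq, g7_eq] at h11
        simp only [Polynomial.derivative_sub, Polynomial.derivative_C_mul, Polynomial.derivative_X,
          Polynomial.derivative_X_pow, Polynomial.eval_sub, Polynomial.eval_mul, Polynomial.eval_C, Polynomial.eval_one,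
          Polynomial.eval_pow, Polynomial.eval_X, one_pow, mul_one] at h11
        push_cast at h11
        have h12 : ((7 : ℕ) : F) = 0 := CharP.cast_eq_zero F 7
        push_cast at h12
        have h13 : (c - d) * 2 = 0 := by linear_combination h11 + (c - d) * h12
        rcases mul_eq_zero.1 h13 with h14 | h14
        · exact sub_eq_zero.1 h14
        · exact absurd h14 h2
      have h4 := Nat.card_le_card_of_injective _ hinj
      omega
    · have hinj : Function.Injective (fun c : F => (⟨D2 hwS hw (t c), t c, rfl⟩ : (D2 hwS hw (hY := hY) (h7 := h7')).range)) := by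
        intro c d hcd
        exact sep hne h2 hwS hw (ht c) (ht d) (congrArg Subtype.val hcd)
      have h4 := Nat.card_le_card_of_injective _ hinj
      omega
  · -- the other characteristics
    obtain ⟨ζ, hζ⟩ : ∃ ζ : AlgebraicClosure F, Sev (AlgebraicClosure F) Y.1 ζ := by
      refine exists_sev (w := (b : GL (Fin 3 ⊕ Fin 3) F).1) (w' := ((b : GL (Fin 3 ⊕ Fin 3) F)⁻¹).1) ?_ ?_ h70 ?_ ?_ ?_
      · exact congrArg Units.val h7'
      · intro h1
        exact hne (Units.ext h1)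
      · exact congrArg Units.val (mul_inv_cancel (b : GL (Fin 3 ⊕ Fin 3) F))
      · exact congrArg Units.val (inv_mul_cancel (b : GL (Fin 3 ⊕ Fin 3) F))
      · exact congrArg Units.val hbY
    rcases hfin with ⟨-, h3⟩ | ⟨-, h3⟩
    · have h4 := hom_card (D1 (Y := Y) (hY := hY) (h7 := h7'))
      rw [card_D1_ker] at h4
      rcases hcard with h5 | h9
      · have h6 := card_wg_five (hY := hY) (h7 := h7') hζ h5 rfl h2
        have h8 := card_sq_five (hY := hY) (h7 := h7') hζ h5 rfl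
        have h10 := Nat.mul_le_mul h3 h8
        omega
      · have h6 := card_wg (hY := hY) (h7 := h7') hζ rfl h2
        have h8 := card_sq (hY := hY) (h7 := h7') hζ rfl
        have h10 := Nat.mul_le_mul h3 h8
        rw [← h4] at h10
        obtain ⟨q, hq⟩ : ∃ q, q = Nat.card F := ⟨_, rfl⟩
        rw [← hq] at h6 h9
        nlinarith [Nat.mul_le_mul h9 h9]
    · have h4 := hom_card (D2 hwS hw (hY := hY) (h7 := h7'))
      rw [card_D2_ker] at h4
      have h8 := card_two (hY := hY) (h7 := h7') hζ rfl hwS hw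
      have h10 := Nat.mul_le_mul h3 h8
      rw [← h4] at h10
      rcases hcard with h5 | h9
      · have h6 := card_wg_five (hY := hY) (h7 := h7') hζ h5 rfl h2
        rw [h5] at h10
        omega
      · have h6 := card_wg (hY := hY) (h7 := h7') hζ rfl h2
        obtain ⟨q, hq⟩ : ∃ q, q = Nat.card F := ⟨_, rfl⟩
        rw [← hq] at h6 h9 h10
        nlinarith [Nat.mul_le_mul h9 h9]

end Cfsg.Agent.H901.EP
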