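import Cfsg.Agent.H901.EP.Symp

/-!
# S3499, row `J2` in `Sp6(q)`: counting symplectic elements in the algebra generated by `Y` (helper901)
-/

set_option autoImplicit false
set_option linter.unusedSectionVars false

open Polynomial Matrix Cfsg
open scoped MatrixGroups

namespace Cfsg.Agent.H901.EP

section val
variable {F : Type*} [Field F] {m : ℕ} {K : Type*} [Field K] [Algebra F K]
variable {Y : GL (Fin m ⊕ Fin m) F} {hY : Y ∈ spGL m F} {h7 : Y ^ 7 = 1} {ζ : K} (h : Sev K Y.1 ζ)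

/-- the values of the elements of `wg` -/
noncomputable def V (j : ℕ) (hj : ¬ 7 ∣ j) : wg Y hY h7 →* K where
  toFun a := aeval (ζ ^ j) (Classical.choose a.2.2)
  map_one' := by
    have h1 := Classical.choose_spec (1 : wg Y hY h7).2.2
    have h2 := h.val_eq (g := 1) (h1.symm.trans (by rw [map_one]; rfl)) hj
    rw [h2, map_one]
  map_mul' a b := by
    have h1 := Classical.choose_spec a.2.2
    have h2 := Classical.choose_spec b.2.2
    have h3 := Classical.choose_spec (a * b).2.2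
    rw [← map_mul]
    apply h.val_eq _ hj
    rw [← h3, map_mul, ← h1, ← h2]
    rfl

theorem V_eq {j : ℕ} {hj : ¬ 7 ∣ j} {a : wg Y hY h7} {f : F[X]} (hf : a.1.1 = aeval Y.1 f) :
    V h j hj a = aeval (ζ ^ j) f :=
  h.val_eq ((Classical.choose_spec a.2.2).symm.trans hf) hj

theorem V_congr {i j : ℕ} {hi : ¬ 7 ∣ i} {hj : ¬ 7 ∣ j} (hij : i % 7 = j % 7) (a : wg Y hY h7) :
    V h i hi a = V h j hj a := by
  show aeval (ζ ^ i) _ = aeval (ζ ^ j) _
  rw [h.hmod hij]

theorem V_inj (hm : m = 3) {a b : wg Y hY h7} (hab : ∀ (j : ℕ) (hj : ¬ 7 ∣ j), V h j hj a = V h j hj b) : a = b := by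
  obtain ⟨f, hf⟩ := a.2.2
  obtain ⟨g, hg⟩ := b.2.2
  apply Subtype.ext
  apply Units.ext
  rw [hf, hg]
  apply h.eq_of_val (by subst hm; simp)
  intro j hj
  rw [← V_eq h (hj := hj) hf, ← V_eq h (hj := hj) hg, hab]

theorem V_ne_zero {j : ℕ} {hj : ¬ 7 ∣ j} (a : wg Y hY h7) : V h j hj a ≠ 0 := by
  intro h0
  have h1 : V h j hj (a * a⁻¹) = 1 := by rw [mul_inv_cancel, map_one]
  rw [map_mul, h0, zero_mul] at h1
  exact zero_ne_one h1

/-- the values at `ζ ^ (6 j)` are the inverses -/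
theorem V_six {j : ℕ} {hj : ¬ 7 ∣ j} {hj6 : ¬ 7 ∣ 6 * j} (a : wg Y hY h7) : V h (6 * j) hj6 a * V h j hj a = 1 := by
  obtain ⟨f, hf⟩ := a.2.2
  have h1 : Y⁻¹ = Y ^ 6 := inv_eq_of_mul_eq_one_right (by rw [← pow_succ', h7])
  have h2 : (a⁻¹).1.1 = aeval Y.1 (f.comp (X ^ 6)) := by
    show ((a.1)⁻¹).1 = _
    rw [← st_eq_inv a.2.1, hf, st_aeval, st_eq_inv hY, h1, Polynomial.aeval_comp, map_pow, aeval_X]
    rfl
  have h3 : V h j hj (a⁻¹ * a) = 1 := by rw [inv_mul_cancel, map_one]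
  rw [map_mul, V_eq h h2, Polynomial.aeval_comp, map_pow, aeval_X, ← pow_mul, mul_comm j 6] at h3
  rw [V_eq h (hj := hj6) hf]
  exact h3

theorem V_conj {b : GL (Fin m ⊕ Fin m) F} (hbS : b ∈ spGL m F) {k : ℕ} (hb : b * Y * b⁻¹ = Y ^ k)
    {j : ℕ} {hj : ¬ 7 ∣ j} {hjk : ¬ 7 ∣ k * j} (a : wg Y hY h7) :
    V h j hj ⟨b * a.1 * b⁻¹, conj_mem hbS hb a.2⟩ = V h (k * j) hjk a := by
  obtain ⟨f, hf⟩ := a.2.2
  rw [V_eq h (hj := hjk) hf, V_eq h (f := f.comp (X ^ k)) (conj_poly hb hf), Polynomial.aeval_comp, map_pow, aeval_X,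
    ← pow_mul, mul_comm j k]

include h

/-- at most 8 elements of square one -/
theorem card_sq (hm : m = 3) : {a : wg Y hY h7 | a * a = 1}.ncard ≤ 8 := by
  classical
  -- the sign at `1, 2, 3`
  let s : wg Y hY h7 → Fin 3 → Bool := fun a i => decide (V h ((i : ℕ) + 1) (by have := i.2; omega) a = 1)
  have hs : Set.InjOn s {a : wg Y hY h7 | a * a = 1} := by
    intro a ha b hb hab
    have hpm : ∀ (c : wg Y hY h7), c * c = 1 → ∀ (j : ℕ) (hj : ¬ 7 ∣ j), V h j hj c = 1 ∨ V h j hj c = -1 := by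
      intro c hc j hj
      have h1 : V h j hj c * V h j hj c = 1 := by rw [← map_mul, hc, map_one]
      exact mul_self_eq_one_iff.1 h1
    have h3 : ∀ (i : Fin 3), V h ((i : ℕ) + 1) (by have := i.2; omega) a = V h ((i : ℕ) + 1) (by have := i.2; omega) b := by
      intro i
      have h4 : decide (V h ((i : ℕ) + 1) (by have := i.2; omega) a = 1) =
        decide (V h ((i : ℕ) + 1) (by have := i.2; omega) b = 1) := congrFun hab i
      rw [decide_eq_decide] at h4
      rcases hpm a ha ((i : ℕ) + 1) (by have := i.2; omega) with h5 | h5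
      · rw [h5, h4.1 h5]
      · rcases hpm b hb ((i : ℕ) + 1) (by have := i.2; omega) with h6 | h6
        · rw [h6, h4.2 h6]
        · rw [h5, h6]
    have h3' : ∀ (j : ℕ) (hj : ¬ 7 ∣ j), j < 4 → V h j hj a = V h j hj b := by
      intro j hj hj4
      have h4 := h3 ⟨j - 1, by omega⟩
      have h5 : (j - 1) + 1 = j := by omega
      simp only [h5] at h4
      exact h4
    apply V_inj h hm
    intro j hj
    have h6 : j % 7 < 4 ∨ (6 * j) % 7 < 4 := by
      have h60 : j % 7 = 1 ∨ j % 7 = 2 ∨ j % 7 = 3 ∨ j % 7 = 4 ∨ j % 7 = 5 ∨ j % 7 = 6 := by omega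
      rcases h60 with h60 | h60 | h60 | h60 | h60 | h60 <;> omega
    rcases h6 with h6 | h6
    · rw [V_congr h (i := j) (j := j % 7) (hj := by omega) (by omega) a,
        V_congr h (i := j) (j := j % 7) (hj := by omega) (by omega) b]
      exact h3' _ _ h6
    · have h8 : V h (6 * j) (by omega) a = V h (6 * j) (by omega) b := by
        rw [V_congr h (i := 6 * j) (j := (6 * j) % 7) (hj := by omega) (by omega) a,
          V_congr h (i := 6 * j) (j := (6 * j) % 7) (hj := by omega) (by omega) b]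
        exact h3' _ _ h6
      have h9 := V_six h (hj := hj) (hj6 := by omega) a
      have h10 := V_six h (hj := hj) (hj6 := by omega) b
      rw [h8] at h9
      exact mul_left_cancel₀ (V_ne_zero h (hj := by omega) b) (h9.trans h10.symm)
  calc {a : wg Y hY h7 | a * a = 1}.ncard ≤ (Set.univ : Set (Fin 3 → Bool)).ncard :=
        Set.ncard_le_ncard_of_injOn s (fun _ _ => Set.mem_univ _) hs (Set.toFinite _)
    _ = 8 := by rw [Set.ncard_univ]; simp

/-- at most `2 q` elements commute with an element which squares `Y` -/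
theorem card_two [Finite F] (hm : m = 3) {b : GL (Fin m ⊕ Fin m) F} (hbS : b ∈ spGL m F) (hb : b * Y * b⁻¹ = Y ^ 2) :
    {a : wg Y hY h7 | b * a.1 * b⁻¹ = a.1}.ncard ≤ 2 * Nat.card F := by
  classical
  have hff := Fintype.ofFinite F
  let Z : Finset K := Finset.univ.biUnion fun c : F => ((X ^ 2 - C (algebraMap F K c) * X + C 1 : K[X])).roots.toFinset
  have hdeg : ∀ c : F, ((X ^ 2 - C (algebraMap F K c) * X + C 1 : K[X])).natDegree = 2 := by
    intro c
    have h1 : (X ^ 2 - C (algebraMap F K c) * X + C 1 : K[X]) = C 1 * X ^ 2 + C (-(algebraMap F K c)) * X + C 1 := by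
      rw [C_neg, C_1]; ring
    rw [h1]
    exact Polynomial.natDegree_quadratic one_ne_zero
  have hne : ∀ c : F, ((X ^ 2 - C (algebraMap F K c) * X + C 1 : K[X])) ≠ 0 := by
    intro c h0
    have := hdeg c
    rw [h0, natDegree_zero] at this
    omega
  have hZ : Z.card ≤ 2 * Nat.card F := by
    refine le_trans Finset.card_biUnion_le ?_
    refine le_trans (Finset.sum_le_sum (g := fun _ => 2) fun c _ => ?_) ?_
    · refine le_trans (Multiset.toFinset_card_le _) ?_
      refine le_trans (Polynomial.card_roots' (X ^ 2 - C (algebraMap F K c) * X + C 1 : K[X])) ?_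
      rw [hdeg c]
    · rw [Finset.sum_const, Finset.card_univ, smul_eq_mul, Nat.card_eq_fintype_card, mul_comm]
  have hv : ∀ a : wg Y hY h7, b * a.1 * b⁻¹ = a.1 → ∀ (j : ℕ) (hj : ¬ 7 ∣ j) (hj2 : ¬ 7 ∣ 2 * j),
      V h (2 * j) hj2 a = V h j hj a := by
    intro a ha j hj hj2
    rw [← V_conj h hbS hb (hj := hj)]
    congr 1
    exact Subtype.ext ha
  -- all values
  have hvalA : ∀ a : wg Y hY h7, b * a.1 * b⁻¹ = a.1 → ∀ (j : ℕ) (hj : ¬ 7 ∣ j), j % 7 = 1 ∨ j % 7 = 2 ∨ j % 7 = 4 →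
      V h j hj a = V h 1 (by norm_num) a := by
    intro a ha j hj h5
    have h1 := hv a ha 1 (by norm_num) (by norm_num)
    have h2 := hv a ha 2 (by norm_num) (by norm_num)
    rcases h5 with h5 | h5 | h5
    · exact V_congr h (by omega) a
    · rw [V_congr h (i := j) (j := 2 * 1) (hj := by norm_num) (by omega) a, h1]
    · rw [V_congr h (i := j) (j := 2 * 2) (hj := by norm_num) (by omega) a, h2, V_congr h (i := 2) (j := 2 * 1) (hj := by norm_num) (by norm_num) a, h1]
  have hvalB : ∀ a : wg Y hY h7, b * a.1 * b⁻¹ = a.1 → ∀ (j : ℕ) (hj : ¬ 7 ∣ j), j % 7 = 3 ∨ j % 7 = 5 ∨ j % 7 = 6 →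
      V h j hj a = V h 6 (by norm_num) a := by
    intro a ha j hj h5
    have h3 := hv a ha 6 (by norm_num) (by norm_num)
    have h4 := hv a ha 12 (by norm_num) (by norm_num)
    rcases h5 with h5 | h5 | h5
    · rw [V_congr h (i := j) (j := 2 * 12) (hj := by norm_num) (by omega) a, h4, V_congr h (i := 12) (j := 2 * 6) (hj := by norm_num) (by norm_num) a, h3]
    · rw [V_congr h (i := j) (j := 2 * 6) (hj := by norm_num) (by omega) a, h3]
    · exact V_congr h (by omega) a
  have hval : ∀ a : wg Y hY h7, b * a.1 * b⁻¹ = a.1 → ∀ (j : ℕ) (hj : ¬ 7 ∣ j),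
      V h j hj a = V h 1 (by norm_num) a ∨ V h j hj a = V h 6 (by norm_num) a := by
    intro a ha j hj
    have h5 : (j % 7 = 1 ∨ j % 7 = 2 ∨ j % 7 = 4) ∨ (j % 7 = 3 ∨ j % 7 = 5 ∨ j % 7 = 6) := by omega
    rcases h5 with h5 | h5
    · exact Or.inl (hvalA a ha j hj h5)
    · exact Or.inr (hvalB a ha j hj h5)
  have h61 : ∀ a : wg Y hY h7, V h 6 (by norm_num) a * V h 1 (by norm_num) a = 1 := by
    intro a
    have := V_six h (j := 1) (hj := by norm_num) (hj6 := by norm_num) a
    rw [V_congr h (i := 6) (j := 6 * 1) (hj := by norm_num) (by norm_num) a]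
    exact this
  have hmem : ∀ a : wg Y hY h7, b * a.1 * b⁻¹ = a.1 → V h 1 (by norm_num) a ∈ Z := by
    intro a ha
    obtain ⟨f, hf⟩ := a.2.2
    obtain ⟨g, hg⟩ := (a⁻¹).2.2
    obtain ⟨c, hc⟩ := h.scalar_of_val (by subst hm; simp) (f := f + g)
      (b := V h 1 (by norm_num) a + V h 6 (by norm_num) a) (by
        intro j hj
        rw [map_add, ← V_eq h (hj := hj) hf, ← V_eq h (hj := hj) hg]
        have hinv : V h j hj (a⁻¹) * V h j hj a = 1 := by rw [← map_mul, inv_mul_cancel, map_one]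
        rcases hval a ha j hj with h1 | h1
        · rw [h1] at hinv ⊢
          have h2 := mul_right_cancel₀ (V_ne_zero h (hj := by norm_num) a) (hinv.trans (h61 a).symm)
          rw [h2]
        · rw [h1] at hinv ⊢
          have h3 : V h 1 (by norm_num) a * V h 6 (by norm_num) a = 1 := by rw [mul_comm]; exact h61 a
          have h2 := mul_right_cancel₀ (V_ne_zero h (hj := by norm_num) a) (hinv.trans h3.symm)
          rw [h2, add_comm])
    refine Finset.mem_biUnion.2 ⟨c, Finset.mem_univ _, ?_⟩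
    rw [Multiset.mem_toFinset, Polynomial.mem_roots (hne c), Polynomial.IsRoot]
    simp only [eval_add, eval_sub, eval_mul, eval_pow, eval_X, eval_C]
    rw [← hc]
    have h2 := h61 a
    linear_combination -h2
  have hinj : Set.InjOn (fun a : wg Y hY h7 => V h 1 (by norm_num) a) {a : wg Y hY h7 | b * a.1 * b⁻¹ = a.1} := by
    intro a ha a' ha' haa
    have haa' : V h 1 (by norm_num) a = V h 1 (by norm_num) a' := haa
    have h6 : V h 6 (by norm_num) a = V h 6 (by norm_num) a' := by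
      have h1 := h61 a
      have h2 := h61 a'
      rw [haa'] at h1
      exact mul_right_cancel₀ (V_ne_zero h (hj := by norm_num) a') (h1.trans h2.symm)
    apply V_inj h hm
    intro j hj
    have h5 : (j % 7 = 1 ∨ j % 7 = 2 ∨ j % 7 = 4) ∨ (j % 7 = 3 ∨ j % 7 = 5 ∨ j % 7 = 6) := by omega
    rcases h5 with h5 | h5
    · rw [hvalA a ha j hj h5, hvalA a' ha' j hj h5, haa']
    · rw [hvalB a ha j hj h5, hvalB a' ha' j hj h5, h6]
  calc {a : wg Y hY h7 | b * a.1 * b⁻¹ = a.1}.ncard ≤ (Z : Set K).ncard :=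
        Set.ncard_le_ncard_of_injOn _ (fun a ha => hmem a ha) hinj (Set.toFinite _)
    _ = Z.card := Set.ncard_coe_finset Z
    _ ≤ _ := hZ

end val

end Cfsg.Agent.H901.EP
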