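import Mathlib

/-!
# S3499, row `J2` in `Sp6(q)`: a matrix `Y` of order 7 conjugate to `Y ^ 3` in dimension 6 (helper901)
-/

set_option autoImplicit false
set_option linter.unusedSectionVars false

open Polynomial Matrix

namespace Cfsg.Agent.H901.EP

variable {F : Type*} [Field F] {K : Type*} [Field K] [Algebra F K] {I : Type*} [Fintype I] [DecidableEq I]

/-- the matrix over `K` -/
abbrev mpK (K : Type*) [Field K] [Algebra F K] (B : Matrix I I F) : Matrix I I K := B.map (algebraMap F K)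

theorem mk_mul (A B : Matrix I I F) : mpK K (A * B) = mpK K A * mpK K B := Matrix.map_mul

theorem mk_one : mpK K (1 : Matrix I I F) = 1 := Matrix.map_one _ (map_zero _) (map_one _)

theorem mk_pow (A : Matrix I I F) (n : ℕ) : mpK K (A ^ n) = mpK K A ^ n := by
  induction n with
  | zero => rw [pow_zero, pow_zero, mk_one]
  | succ n ih => rw [pow_succ, pow_succ, mk_mul, ih]

theorem mk_inj : Function.Injective (mpK K : Matrix I I F → Matrix I I K) :=
  Matrix.map_injective (algebraMap F K).injective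

theorem mk_aeval (A : Matrix I I F) (f : F[X]) : mpK K (aeval A f) = aeval (mpK K A) (f.map (algebraMap F K)) := by
  induction f using Polynomial.induction_on' with
  | add f g hf hg =>
    rw [map_add, Polynomial.map_add, map_add, ← hf, ← hg]
    exact Matrix.map_add _ (map_add _) _ _
  | monomial n a =>
    rw [Polynomial.map_monomial, aeval_monomial, aeval_monomial, mk_mul, mk_pow]
    congr 1
    ext i j
    simp [Matrix.algebraMap_matrix_apply, apply_ite (algebraMap F K)]

/-- polynomials act on eigenvectors -/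
theorem aeval_mulVec {A : Matrix I I K} {v : I → K} {μ : K} (hv : A *ᵥ v = μ • v) (f : K[X]) :
    aeval A f *ᵥ v = (f.eval μ) • v := by
  induction f using Polynomial.induction_on' with
  | add f g hf hg => rw [map_add, Matrix.add_mulVec, hf, hg, eval_add, add_smul]
  | monomial n a =>
    have h1 : ∀ n : ℕ, A ^ n *ᵥ v = μ ^ n • v := by
      intro n
      induction n with
      | zero => rw [pow_zero, pow_zero, Matrix.one_mulVec, one_smul]
      | succ n ih => rw [pow_succ, ← Matrix.mulVec_mulVec, hv, Matrix.mulVec_smul, ih, smul_smul, pow_succ, mul_comm]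
    rw [aeval_monomial, ← Matrix.mulVec_mulVec, h1, eval_monomial, ← smul_smul, Algebra.algebraMap_eq_smul_one,
      Matrix.smul_mulVec, Matrix.one_mulVec]

theorem aeval_mk_mulVec {A : Matrix I I F} {v : I → K} {μ : K} (hv : mpK K A *ᵥ v = μ • v) (f : F[X]) :
    mpK K (aeval A f) *ᵥ v = (aeval μ f) • v := by
  rw [mk_aeval, aeval_mulVec hv, Polynomial.eval_map_algebraMap]

theorem aeval_eq_zero_of {A : Matrix I I F} {v : I → K} {μ : K} (hv : mpK K A *ᵥ v = μ • v) (hv0 : v ≠ 0) {f : F[X]}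
    (hf : aeval A f = 0) : aeval μ f = 0 := by
  have h1 := aeval_mk_mulVec hv f
  rw [hf] at h1
  have h2 : mpK K (0 : Matrix I I F) = 0 := Matrix.map_zero _ (map_zero _)
  rw [h2, Matrix.zero_mulVec] at h1
  exact (smul_eq_zero.1 h1.symm).resolve_right hv0

/-- an eigenvector for a nontrivial 7-th root of unity -/
theorem exists_eig [IsAlgClosed K] {Y : Matrix I I F} (hY : Y ^ 7 = 1) (hne : Y ≠ 1) (h7 : (7 : F) ≠ 0) :
    ∃ (ζ : K) (v : I → K), v ≠ 0 ∧ ζ ^ 7 = 1 ∧ ζ ≠ 1 ∧ mpK K Y *ᵥ v = ζ • v := by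
  let T : Module.End K (I → K) := Matrix.toLin' (mpK K Y)
  have hT : ∀ x, T x = mpK K Y *ᵥ x := fun x => Matrix.toLin'_apply _ _
  have hTp : ∀ (n : ℕ) (x : I → K), (T ^ n) x = mpK K (Y ^ n) *ᵥ x := by
    intro n
    induction n with
    | zero => intro x; rw [pow_zero, pow_zero, mk_one, Matrix.one_mulVec]; rfl
    | succ n ih => intro x; rw [pow_succ, Module.End.mul_apply, ih, hT, Matrix.mulVec_mulVec, ← mk_mul, ← pow_succ]
  let W : Submodule K (I → K) := LinearMap.range (T - 1)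
  have hW : ∀ x ∈ W, T x ∈ W := by
    rintro _ ⟨x, rfl⟩
    refine ⟨T x, ?_⟩
    simp only [LinearMap.sub_apply, Module.End.one_apply, map_sub]
  have hW1 : W ≠ ⊥ := by
    intro h
    apply hne
    apply mk_inj (K := K)
    rw [mk_one]
    apply Matrix.ext_of_mulVec_single
    intro i
    have h1 : (T - 1) (Pi.single i 1) ∈ W := ⟨_, rfl⟩
    rw [h, Submodule.mem_bot, LinearMap.sub_apply, Module.End.one_apply, sub_eq_zero, hT] at h1
    rw [h1, Matrix.one_mulVec]
  have : Nontrivial W := Submodule.nontrivial_iff_ne_bot.2 hW1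
  obtain ⟨μ, hμ⟩ := Module.End.exists_eigenvalue (K := K) (T.restrict hW)
  obtain ⟨v, hv⟩ := hμ.exists_hasEigenvector
  have hv1 : T v = μ • (v : I → K) := by
    have := hv.apply_eq_smul
    exact congrArg Subtype.val this
  have hv0 : (v : I → K) ≠ 0 := fun h => hv.2 (Subtype.ext h)
  have hvp : ∀ n : ℕ, (T ^ n) v = μ ^ n • (v : I → K) := by
    intro n
    induction n with
    | zero => rw [pow_zero, pow_zero, one_smul]; rfl
    | succ n ih => rw [pow_succ, Module.End.mul_apply, hv1, map_smul, ih, smul_smul, pow_succ, mul_comm]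
  have hμ7 : μ ^ 7 = 1 := by
    have h1 := hvp 7
    rw [hTp, hY, mk_one, Matrix.one_mulVec] at h1
    have h2 : (μ ^ 7 - 1) • (v : I → K) = 0 := by rw [sub_smul, one_smul, ← h1, sub_self]
    exact sub_eq_zero.1 ((smul_eq_zero.1 h2).resolve_right hv0)
  refine ⟨μ, v, hv0, hμ7, ?_, by rw [← hT]; exact hv1⟩
  rintro rfl
  obtain ⟨x, hx⟩ := v.2
  have hx1 : T x = x + (v : I → K) := by
    rw [← hx]
    simp
  have hxp : ∀ n : ℕ, (T ^ n) x = x + (n : K) • (v : I → K) := by
    intro n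
    induction n with
    | zero => rw [pow_zero, Nat.cast_zero, zero_smul, add_zero]; rfl
    | succ n ih =>
      rw [pow_succ', Module.End.mul_apply, ih, map_add, map_smul, hx1, hv1, one_smul, Nat.cast_succ, add_smul, one_smul]
      abel
  have h1 := hxp 7
  rw [hTp, hY, mk_one, Matrix.one_mulVec] at h1
  have h2 : ((7 : ℕ) : K) • (v : I → K) = 0 := by
    have h3 : x + ((7 : ℕ) : K) • (v : I → K) = x + 0 := by rw [add_zero]; exact h1.symm
    exact add_left_cancel h3
  rcases smul_eq_zero.1 h2 with h3 | h3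
  · apply h7
    apply (algebraMap F K).injective
    rw [map_zero]
    have h4 : (algebraMap F K) ((7 : ℕ) : F) = ((7 : ℕ) : K) := map_natCast _ _
    have h5 : (7 : F) = ((7 : ℕ) : F) := by norm_num
    rw [h5, h4, h3]
  · exact hv0 h3

/-- the eigenvectors for `ζ ^ (3 ^ i)` -/
theorem eig_three {Y w w' : Matrix I I F} (hw : w * w' = 1) (hw2 : w' * w = 1) (hwY : w * Y * w' = Y ^ 3) {ζ : K}
    {v : I → K} (hv0 : v ≠ 0) (hv : mpK K Y *ᵥ v = ζ • v) :
    mpK K w' *ᵥ v ≠ 0 ∧ mpK K Y *ᵥ (mpK K w' *ᵥ v) = ζ ^ 3 • (mpK K w' *ᵥ v) := by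
  constructor
  · intro h
    apply hv0
    have : mpK K w *ᵥ (mpK K w' *ᵥ v) = v := by
      rw [Matrix.mulVec_mulVec, ← mk_mul, hw, mk_one, Matrix.one_mulVec]
    rw [← this, h, Matrix.mulVec_zero]
  · have h1 : Y * w' = w' * Y ^ 3 := by
      rw [← hwY, ← mul_assoc, ← mul_assoc, hw2, one_mul]
    have h2 : mpK K (Y ^ 3) *ᵥ v = ζ ^ 3 • v := by
      have := aeval_mk_mulVec hv (X ^ 3)
      rw [map_pow, aeval_X, map_pow, aeval_X] at this
      exact this
    rw [Matrix.mulVec_mulVec, ← mk_mul, h1, mk_mul, ← Matrix.mulVec_mulVec, h2, Matrix.mulVec_smul]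

/-- the data of a matrix of order 7 with the six eigenvalues `ζ, …, ζ ^ 6` over `K` -/
structure Sev (K : Type*) [Field K] [Algebra F K] (Y : Matrix I I F) (ζ : K) : Prop where
  pow : Y ^ 7 = 1
  ne : ζ ≠ 1
  seven : ζ ^ 7 = 1
  eig : ∀ j : ℕ, ¬ 7 ∣ j → ∃ v : I → K, v ≠ 0 ∧ mpK K Y *ᵥ v = ζ ^ j • v

theorem exists_sev [IsAlgClosed K] {Y w w' : Matrix I I F} (hY : Y ^ 7 = 1) (hne : Y ≠ 1) (h7 : (7 : F) ≠ 0)
    (hw : w * w' = 1) (hw2 : w' * w = 1) (hwY : w * Y * w' = Y ^ 3) : ∃ ζ : K, Sev K Y ζ := by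
  obtain ⟨ζ, v, hv0, hζ7, hζ1, hv⟩ := exists_eig (K := K) hY hne h7
  have hstep : ∀ i : ℕ, ∃ v : I → K, v ≠ 0 ∧ mpK K Y *ᵥ v = ζ ^ (3 ^ i) • v := by
    intro i
    induction i with
    | zero => exact ⟨v, hv0, by rw [pow_zero, pow_one]; exact hv⟩
    | succ i ih =>
      obtain ⟨v', hv', h'⟩ := ih
      obtain ⟨h1, h2⟩ := eig_three hw hw2 hwY hv' h'
      exact ⟨_, h1, by rw [h2, ← pow_mul, pow_succ]⟩
  have hmod : ∀ a b : ℕ, a % 7 = b % 7 → ζ ^ a = ζ ^ b := by
    intro a b hab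
    rw [← Nat.div_add_mod a 7, ← Nat.div_add_mod b 7, pow_add, pow_add, pow_mul, pow_mul, hζ7, one_pow, one_pow, hab]
  refine ⟨ζ, hY, hζ1, hζ7, fun j hj => ?_⟩
  have h1 : j % 7 = 1 ∨ j % 7 = 2 ∨ j % 7 = 3 ∨ j % 7 = 4 ∨ j % 7 = 5 ∨ j % 7 = 6 := by omega
  rcases h1 with h | h | h | h | h | h
  · obtain ⟨v, h2, h3⟩ := hstep 0
    exact ⟨v, h2, by rw [h3, hmod j (3 ^ 0) (by rw [h]; norm_num)]⟩
  · obtain ⟨v, h2, h3⟩ := hstep 2
    exact ⟨v, h2, by rw [h3, hmod j (3 ^ 2) (by rw [h]; norm_num)]⟩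
  · obtain ⟨v, h2, h3⟩ := hstep 1
    exact ⟨v, h2, by rw [h3, hmod j (3 ^ 1) (by rw [h]; norm_num)]⟩
  · obtain ⟨v, h2, h3⟩ := hstep 4
    exact ⟨v, h2, by rw [h3, hmod j (3 ^ 4) (by rw [h]; norm_num)]⟩
  · obtain ⟨v, h2, h3⟩ := hstep 5
    exact ⟨v, h2, by rw [h3, hmod j (3 ^ 5) (by rw [h]; norm_num)]⟩
  · obtain ⟨v, h2, h3⟩ := hstep 3
    exact ⟨v, h2, by rw [h3, hmod j (3 ^ 3) (by rw [h]; norm_num)]⟩

namespace Sev

variable {Y : Matrix I I F} {ζ : K} (h : Sev K Y ζ)
include h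

theorem orderOf : _root_.orderOf ζ = 7 := by
  have : Fact (Nat.Prime 7) := ⟨by norm_num⟩
  exact orderOf_eq_prime h.seven h.ne

theorem pow_inj {a b : ℕ} (hab : ζ ^ a = ζ ^ b) : a % 7 = b % 7 := by
  have h0 : ζ ≠ 0 := by
    rintro rfl
    have := h.seven
    rw [zero_pow (by norm_num)] at this
    exact zero_ne_one this
  have h2 : (Units.mk0 ζ h0) ^ a = (Units.mk0 ζ h0) ^ b := Units.ext (by
    rw [Units.val_pow_eq_pow_val, Units.val_pow_eq_pow_val, Units.val_mk0]; exact hab)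
  have h1 := pow_inj_mod.1 h2
  have h3 : _root_.orderOf (Units.mk0 ζ h0) = 7 := by
    rw [← orderOf_units, Units.val_mk0]; exact h.orderOf
  rw [h3] at h1
  exact h1

theorem hmod {a b : ℕ} (hab : a % 7 = b % 7) : ζ ^ a = ζ ^ b := by
  rw [← Nat.div_add_mod a 7, ← Nat.div_add_mod b 7, pow_add, pow_add, pow_mul, pow_mul, h.seven, one_pow, one_pow, hab]

/-- values of polynomials -/
theorem val {f : F[X]} (hf : aeval Y f = 0) {j : ℕ} (hj : ¬ 7 ∣ j) : aeval (ζ ^ j) f = 0 := by
  obtain ⟨v, hv0, hv⟩ := h.eig j hj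
  exact aeval_eq_zero_of hv hv0 hf

theorem val_eq {f g : F[X]} (hfg : aeval Y f = aeval Y g) {j : ℕ} (hj : ¬ 7 ∣ j) : aeval (ζ ^ j) f = aeval (ζ ^ j) g := by
  have h1 := h.val (f := f - g) (by rw [map_sub, hfg, sub_self]) hj
  rw [map_sub] at h1
  exact sub_eq_zero.1 h1

/-- six values in dimension 6: `Y` has no fixed vectors, `1 + Y + … + Y ^ 6 = 0` -/
theorem geom (hI : Fintype.card I = 6) : ∑ i ∈ Finset.range 7, Y ^ i = 0 := by
  -- no fixed vectors
  have hdet : (Y - 1).det ≠ 0 := by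
    intro hdet
    obtain ⟨x, hx0, hx⟩ := Matrix.exists_mulVec_eq_zero_iff.2 hdet
    have hx1 : Y *ᵥ x = x := by
      rw [Matrix.sub_mulVec, Matrix.one_mulVec] at hx
      exact sub_eq_zero.1 hx
    let T : Module.End K (I → K) := Matrix.toLin' (mpK K Y)
    have hev : ∀ i : Fin 7, ∃ v : I → K, T.HasEigenvector (ζ ^ (i : ℕ)) v := by
      intro i
      by_cases hi : 7 ∣ (i : ℕ)
      · have hi0 : (i : ℕ) = 0 := by have := i.2; omega
        refine ⟨fun k => algebraMap F K (x k), ?_, ?_⟩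
        · rw [hi0, pow_zero, Module.End.mem_eigenspace_iff, one_smul, Matrix.toLin'_apply]
          funext k
          have h1 := congrFun hx1 k
          show ∑ l, algebraMap F K (Y k l) * algebraMap F K (x l) = algebraMap F K (x k)
          rw [← h1]
          show _ = algebraMap F K (∑ l, Y k l * x l)
          rw [map_sum]
          exact Finset.sum_congr rfl fun l _ => (map_mul _ _ _).symm
        · intro h1
          apply hx0
          funext k
          exact (algebraMap F K).injective ((congrFun h1 k).trans (map_zero _).symm)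
      · obtain ⟨v, hv0, hv⟩ := h.eig i hi
        exact ⟨v, by rw [Module.End.mem_eigenspace_iff, Matrix.toLin'_apply]; exact hv, hv0⟩
    choose v hv using hev
    have hli := Module.End.eigenvectors_linearIndependent' T (fun i : Fin 7 => ζ ^ (i : ℕ)) (by
      intro i j hij
      have := h.pow_inj hij
      apply Fin.ext
      omega) v hv
    have h2 := hli.fintype_card_le_finrank
    rw [Module.finrank_fintype_fun_eq_card, hI, Fintype.card_fin] at h2
    omega
  have h1 : (∑ i ∈ Finset.range 7, Y ^ i) * (Y - 1) = 0 := by rw [geom_sum_mul, h.pow, sub_self]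
  have hu : IsUnit (Y - 1) := (Matrix.isUnit_iff_isUnit_det _).2 (isUnit_iff_ne_zero.2 hdet)
  exact (hu.mul_left_eq_zero).1 h1

/-- a polynomial of degree at most 5 with the six zeros is zero -/
theorem eq_zero_of_degree {f : F[X]} (hd : f.degree < 6) (hf : ∀ j : ℕ, ¬ 7 ∣ j → aeval (ζ ^ j) f = 0) : f = 0 := by
  classical
  by_contra hf0
  have h1 : (f.map (algebraMap F K)) ≠ 0 := (Polynomial.map_ne_zero_iff (algebraMap F K).injective).2 hf0
  have h2 := Polynomial.card_roots h1
  have h3 : ((Finset.range 6).image fun i => ζ ^ (i + 1)) ⊆ (f.map (algebraMap F K)).roots.toFinset := by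
    intro z hz
    obtain ⟨i, hi, rfl⟩ := Finset.mem_image.1 hz
    rw [Multiset.mem_toFinset, Polynomial.mem_roots h1, Polynomial.IsRoot, Polynomial.eval_map_algebraMap]
    have := Finset.mem_range.1 hi
    exact hf _ (by omega)
  have h4 := Finset.card_le_card h3
  rw [Finset.card_image_of_injOn (by
    intro a ha b hb hab
    have h5 := h.pow_inj hab
    have h6 := Finset.mem_range.1 (Finset.mem_coe.1 ha)
    have h7 := Finset.mem_range.1 (Finset.mem_coe.1 hb)
    omega), Finset.card_range] at h4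
  have h5 := Multiset.toFinset_card_le (f.map (algebraMap F K)).roots
  have h6 : ((f.map (algebraMap F K)).degree) < 6 := by
    rw [Polynomial.degree_map]; exact hd
  have h7 : (6 : WithBot ℕ) ≤ (f.map (algebraMap F K)).degree := by
    refine le_trans ?_ h2
    exact_mod_cast h4.trans h5
  exact absurd (lt_of_lt_of_le h6 h7) (lt_irrefl _)

/-- the polynomial `1 + X + … + X ^ 6` -/
theorem phi_val {j : ℕ} (hj : ¬ 7 ∣ j) : aeval (ζ ^ j) (∑ i ∈ Finset.range 7, (X : F[X]) ^ i) = 0 := by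
  rw [map_sum]
  simp only [map_pow, aeval_X]
  have h1 : (∑ i ∈ Finset.range 7, (ζ ^ j) ^ i) * (ζ ^ j - 1) = 0 := by
    rw [geom_sum_mul, ← pow_mul, mul_comm, pow_mul, h.seven, one_pow, sub_self]
  refine (mul_eq_zero.1 h1).resolve_right ?_
  intro h2
  rw [sub_eq_zero] at h2
  have h3 := h.pow_inj (a := j) (b := 0) (by rw [h2, pow_zero])
  omega

/-- reduction to degree at most 5 -/
theorem exists_low (hI : Fintype.card I = 6) (f : F[X]) : ∃ g : F[X], g.degree < 6 ∧ aeval Y f = aeval Y g ∧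
    ∀ j : ℕ, ¬ 7 ∣ j → aeval (ζ ^ j) f = aeval (ζ ^ j) g := by
  have hm : (∑ i ∈ Finset.range 7, (X : F[X]) ^ i).Monic := Polynomial.monic_geom_sum_X (by norm_num)
  have hY : aeval Y (∑ i ∈ Finset.range 7, (X : F[X]) ^ i) = 0 := by
    rw [map_sum, ← h.geom hI]
    simp only [map_pow, aeval_X]
  refine ⟨f %ₘ (∑ i ∈ Finset.range 7, (X : F[X]) ^ i), ?_, ?_, ?_⟩
  · refine lt_of_lt_of_le (Polynomial.degree_modByMonic_lt _ hm) ?_
    refine le_trans Polynomial.degree_le_natDegree ?_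
    have h1 : (∑ i ∈ Finset.range 7, (X : F[X]) ^ i).natDegree ≤ 6 := by
      refine Polynomial.natDegree_sum_le_of_forall_le _ _ fun i hi => ?_
      rw [Polynomial.natDegree_X_pow]
      have := Finset.mem_range.1 hi
      omega
    exact_mod_cast h1
  · conv_lhs => rw [← Polynomial.modByMonic_add_div f (∑ i ∈ Finset.range 7, (X : F[X]) ^ i)]
    rw [map_add, map_mul, hY, zero_mul, add_zero]
  · intro j hj
    conv_lhs => rw [← Polynomial.modByMonic_add_div f (∑ i ∈ Finset.range 7, (X : F[X]) ^ i)]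
    rw [map_add, map_mul, h.phi_val hj, zero_mul, add_zero]

/-- a polynomial in `Y` is determined by its six values -/
theorem eq_of_val (hI : Fintype.card I = 6) {f g : F[X]} (hfg : ∀ j : ℕ, ¬ 7 ∣ j → aeval (ζ ^ j) f = aeval (ζ ^ j) g) :
    aeval Y f = aeval Y g := by
  obtain ⟨k, hkd, hk, hkv⟩ := h.exists_low hI (f - g)
  have h1 : k = 0 := by
    apply h.eq_zero_of_degree hkd
    intro j hj
    rw [← hkv j hj, map_sub, hfg j hj, sub_self]
  rw [h1, map_zero, map_sub] at hk
  exact sub_eq_zero.1 hk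

/-- a polynomial in `Y` which takes the same value everywhere is a scalar -/
theorem scalar_of_val (hI : Fintype.card I = 6) {f : F[X]} {b : K} (hfb : ∀ j : ℕ, ¬ 7 ∣ j → aeval (ζ ^ j) f = b) :
    ∃ c : F, b = algebraMap F K c := by
  obtain ⟨k, hkd, -, hkv⟩ := h.exists_low hI f
  -- `k - k(ζ)` has six roots over `K`
  have h1 : (k.map (algebraMap F K) - C b) = 0 := by
    classical
    by_contra hf0
    have h2 := Polynomial.card_roots hf0
    have h3 : ((Finset.range 6).image fun i => ζ ^ (i + 1)) ⊆ (k.map (algebraMap F K) - C b).roots.toFinset := by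
      intro z hz
      obtain ⟨i, hi, rfl⟩ := Finset.mem_image.1 hz
      have := Finset.mem_range.1 hi
      rw [Multiset.mem_toFinset, Polynomial.mem_roots hf0, Polynomial.IsRoot, Polynomial.eval_sub,
        Polynomial.eval_map_algebraMap, Polynomial.eval_C, ← hkv _ (by omega), hfb _ (by omega), sub_self]
    have h4 := Finset.card_le_card h3
    rw [Finset.card_image_of_injOn (by
      intro a ha b hb hab
      have h5 := h.pow_inj hab
      have h6 := Finset.mem_range.1 (Finset.mem_coe.1 ha)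
      have h7 := Finset.mem_range.1 (Finset.mem_coe.1 hb)
      omega), Finset.card_range] at h4
    have h5 := Multiset.toFinset_card_le (k.map (algebraMap F K) - C b).roots
    have h6 : (k.map (algebraMap F K) - C b).degree < 6 := by
      refine lt_of_le_of_lt (Polynomial.degree_sub_le _ _) (max_lt ?_ ?_)
      · rw [Polynomial.degree_map]; exact hkd
      · exact lt_of_le_of_lt Polynomial.degree_C_le (by norm_num)
    have h7 : (6 : WithBot ℕ) ≤ (k.map (algebraMap F K) - C b).degree := by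
      refine le_trans ?_ h2
      exact_mod_cast h4.trans h5
    exact absurd (lt_of_lt_of_le h6 h7) (lt_irrefl _)
  refine ⟨k.coeff 0, ?_⟩
  have h2 := congrArg (fun p : K[X] => p.coeff 0) h1
  simp only [Polynomial.coeff_sub, Polynomial.coeff_map, Polynomial.coeff_C_zero, Polynomial.coeff_zero] at h2
  exact (sub_eq_zero.1 h2).symm

/-- inverses in the algebra generated by `Y` -/
theorem exists_inv [Finite F] (hI : Fintype.card I = 6) {g : F[X]} (hg : ∀ j : ℕ, ¬ 7 ∣ j → aeval (ζ ^ j) g ≠ 0) :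
    ∃ k : F[X], aeval Y g * aeval Y k = 1 := by
  classical
  let E := (aeval Y : F[X] →ₐ[F] Matrix I I F).range
  have hfin : Finite E := inferInstance
  let m : E → E := fun e => ⟨aeval Y g * e.1, E.mul_mem ⟨g, rfl⟩ e.2⟩
  have hm : Function.Injective m := by
    rintro ⟨_, ⟨a, rfl⟩⟩ ⟨_, ⟨b, rfl⟩⟩ hab
    apply Subtype.ext
    have h1 : aeval Y g * aeval Y a = aeval Y g * aeval Y b := congrArg Subtype.val hab
    rw [← map_mul, ← map_mul] at h1
    apply h.eq_of_val hI
    intro j hj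
    have h2 := h.val_eq h1 hj
    rw [map_mul, map_mul] at h2
    exact mul_left_cancel₀ (hg j hj) h2
  obtain ⟨⟨_, ⟨k, rfl⟩⟩, hk⟩ := (Finite.injective_iff_surjective.1 hm) ⟨1, E.one_mem⟩
  exact ⟨k, congrArg Subtype.val hk⟩

end Sev

end Cfsg.Agent.H901.EP
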