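import Cfsg.Agent.H284.EP.TForm

/-!
# S3499: the Sylow criterion (PS) of helper67 in a stronger form (helper901)

`Y ≤ A` a Sylow `s`-subgroup of prime order; `x ∉ A` centralizes `Y`.  Then `A ∩ A^x` contains an element which
normalises but does not centralise `Y`.  Numerical hypothesis for every prime `l ≠ s`: if a power `l ^ j` of `l`
dividing `|A|`, `j ≥ 1`, is congruent mod `s` to a divisor of `|C_A(Y)|` which is a power of `l`, then `l = 2`, and
`j` is not the full exponent.
-/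

set_option autoImplicit false
set_option linter.unusedSectionVars false

namespace Cfsg.Agent.H901.EP

open Subgroup Cfsg.Agent.H284

/-- a normal subgroup of order prime to `s` has a Sylow `l`-subgroup normalised by the element `y` of order `s` -/
theorem exists_inv_sylow {M : Type*} [Group M] [Finite M] {s : ℕ} (hs : s.Prime) {y : M} (hy : orderOf y = s)
    {K : Subgroup M} [K.Normal] (hK : ¬ s ∣ Nat.card K) (l : ℕ) [Fact l.Prime] :
    ∃ R : Sylow l K, ∀ r ∈ (R : Subgroup K), MulAut.conjNormal y r ∈ (R : Subgroup K) := by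
  have : Fact s.Prime := ⟨hs⟩
  -- the action of `⟨y⟩` on the Sylow subgroups of `K`
  let φ : Subgroup.zpowers y →* MulAut K := (MulAut.conjNormal (H := K)).comp (Subgroup.zpowers y).subtype
  let _ : MulDistribMulAction (Subgroup.zpowers y) K := MulDistribMulAction.compHom K φ
  have hpg : IsPGroup s (Subgroup.zpowers y) := by
    apply IsPGroup.of_card (n := 1)
    rw [Nat.card_zpowers, hy, pow_one]
  have h1 : ¬ s ∣ Nat.card (Sylow l K) := by
    intro h
    obtain ⟨R⟩ : Nonempty (Sylow l K) := inferInstance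
    exact hK (h.trans (by rw [R.card_eq_index_normalizer]; exact Subgroup.index_dvd_card _))
  obtain ⟨R, hR⟩ := hpg.nonempty_fixed_point_of_prime_not_dvd_card (Sylow l K) h1
  refine ⟨R, fun r hr => ?_⟩
  have h2 : (⟨y, Subgroup.mem_zpowers y⟩ : Subgroup.zpowers y) • R = R := hR ⟨y, Subgroup.mem_zpowers y⟩
  have h3 : (⟨y, Subgroup.mem_zpowers y⟩ : Subgroup.zpowers y) • r ∈ ((⟨y, Subgroup.mem_zpowers y⟩ : Subgroup.zpowers y) • R : Sylow l K) := by
    exact Subgroup.smul_mem_pointwise_smul r _ _ hr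
  rw [h2] at h3
  exact h3

/-- fixed points of an element of prime order on a subgroup which it normalises -/
theorem card_modEq {Q : Type*} [Group Q] [Finite Q] {s : ℕ} (hs : s.Prime) {y : Q} (hy : y ^ s = 1) {R : Subgroup Q}
    (hR : ∀ r ∈ R, y * r * y⁻¹ ∈ R) : Nat.card R ≡ Nat.card (R ⊓ Subgroup.centralizer {y} : Subgroup Q) [MOD s] := by
  classical
  have : Fact s.Prime := ⟨hs⟩
  have := Fintype.ofFinite R
  let f : Function.End R := fun r => ⟨y * r * y⁻¹, hR r r.2⟩
  have hfn : ∀ (n : ℕ) (r : R), (((f ^ n) r : R) : Q) = y ^ n * r * (y ^ n)⁻¹ := by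
    intro n
    induction n with
    | zero =>
      intro r
      show (r : Q) = y ^ 0 * r * (y ^ 0)⁻¹
      simp
    | succ n ih =>
      intro r
      rw [pow_succ]
      show (((f ^ n) (f r) : R) : Q) = _
      rw [ih]
      show y ^ n * (y * r * y⁻¹) * (y ^ n)⁻¹ = _
      rw [pow_succ]
      group
  have hf : f ^ s ^ 1 = 1 := by
    funext r
    apply Subtype.ext
    rw [hfn, pow_one, hy]
    show (1 : Q) * r * 1⁻¹ = r
    simp
  have h1 := Equiv.Perm.card_fixedPoints_modEq hf
  rw [← Nat.card_eq_fintype_card, ← Nat.card_eq_fintype_card] at h1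
  have h2 : Nat.card (Function.fixedPoints f) = Nat.card (R ⊓ Subgroup.centralizer {y} : Subgroup Q) := by
    refine Nat.card_congr ⟨fun r => ⟨r.1, r.1.2, ?_⟩, fun r => ⟨⟨r.1, r.2.1⟩, ?_⟩, fun r => rfl, fun r => rfl⟩
    · have h3 : y * (r.1 : Q) * y⁻¹ = r.1 := congrArg Subtype.val r.2
      rw [mul_inv_eq_iff_eq_mul] at h3
      exact Subgroup.mem_centralizer_singleton_iff.2 h3.symm
    · apply Subtype.ext
      show y * (r.1 : Q) * y⁻¹ = r.1
      rw [mul_inv_eq_iff_eq_mul]
      exact (Subgroup.mem_centralizer_singleton_iff.1 r.2.2).symm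
  rw [← h2]
  exact h1

/-- **(PS)** -/
theorem ps {Q : Type*} [Group Q] [Finite Q] {A : Subgroup Q} {Γ : Subgroup (MulAut Q)} (h : EPT A Γ)
    (hab : ∀ K : Subgroup Q, K ≤ A → (∀ a ∈ A, ∀ k ∈ K, a * k * a⁻¹ ∈ K) → (∀ a ∈ K, ∀ b ∈ K, a * b = b * a) → K = ⊥)
    {s e : ℕ} (hs : s.Prime) (he : e.Prime) (hes : e ≠ s) {y : Q} (hy : orderOf y = s) (hyA : y ∈ A)
    (hs2 : ¬ s ^ 2 ∣ Nat.card A)
    (h1 : ∀ l j c : ℕ, l.Prime → l ≠ s → l ≠ e → 1 ≤ j → l ^ j ∣ Nat.card A →
      l ^ c ∣ Nat.card (A ⊓ Subgroup.centralizer {y} : Subgroup Q) → ¬ l ^ j ≡ l ^ c [MOD s])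
    (h2 : ∀ j c : ℕ, e ^ j ∣ Nat.card A → ¬ e ^ (j + 1) ∣ Nat.card A →
      e ^ c ∣ Nat.card (A ⊓ Subgroup.centralizer {y} : Subgroup Q) → ¬ e ^ j ≡ e ^ c [MOD s])
    {x : Q} (hx : x ∉ A) (hxy : x * y = y * x) :
    ∃ u ∈ A, x⁻¹ * u * x ∈ A ∧ (∃ k : ℕ, u * y * u⁻¹ = y ^ k) ∧ u * y ≠ y * u := by
  classical
  by_contra hcon
  push Not at hcon
  have hsf : Fact s.Prime := ⟨hs⟩
  have hef : Fact e.Prime := ⟨he⟩
  -- the two point stabiliser
  let M : Subgroup Q := A ⊓ cj x A
  have hMA : M ≤ A := inf_le_left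
  have hyM : y ∈ M := ⟨hyA, mem_cj.2 (by
    have : x⁻¹ * y * x = y := by rw [mul_assoc, ← hxy, inv_mul_cancel_left]
    rw [this]; exact hyA)⟩
  have hys : y ^ s = 1 := by rw [← hy]; exact pow_orderOf_eq_one y
  have hMdvd : Nat.card M ∣ Nat.card A := Subgroup.card_dvd_of_le hMA
  let y' : M := ⟨y, hyM⟩
  have hy' : orderOf y' = s := by rw [← hy]; exact Subgroup.orderOf_mk y hyM
  have hZc : Nat.card (Subgroup.zpowers y') = s := by rw [Nat.card_zpowers, hy']
  have hsM : s ∣ Nat.card M := by rw [← hy']; exact orderOf_dvd_natCard y'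
  have hfac : (Nat.card M).factorization s = 1 := by
    have hne : Nat.card M ≠ 0 := Nat.card_pos.ne'
    have h3 : 1 ≤ (Nat.card M).factorization s := (hs.dvd_iff_one_le_factorization hne).1 hsM
    by_contra h4
    apply hs2
    exact (((hs.pow_dvd_iff_le_factorization hne).2 (by omega : 2 ≤ (Nat.card M).factorization s)).trans hMdvd)
  let P : Sylow s M := Sylow.ofCard (Subgroup.zpowers y') (by rw [hZc, hfac, pow_one])
  have hPz : (P : Subgroup M) = Subgroup.zpowers y' := rfl
  have hP : Subgroup.normalizer (P : Set M) ≤ Subgroup.centralizer (P : Set M) := by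
    intro n hn
    have h3 : n * y' * n⁻¹ ∈ Subgroup.zpowers y' := by
      have := (Subgroup.mem_normalizer_iff.1 hn y').1 (by
        show y' ∈ (P : Subgroup M)
        rw [hPz]; exact Subgroup.mem_zpowers y')
      exact this
    obtain ⟨k, hk⟩ := (Subgroup.mem_zpowers_iff.1 h3)
    have h4 : (n : Q) * y = y * n := by
      apply hcon n (hMA n.2) (mem_cj.1 (mem_inf.1 n.2).2)
      obtain ⟨k', hk'⟩ : ∃ k' : ℕ, y' ^ k = y' ^ k' := by
        have h5 : y' ^ k ∈ Submonoid.powers y' := by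
          rw [mem_powers_iff_mem_zpowers]
          exact ⟨k, rfl⟩
        obtain ⟨k', hk'⟩ := h5
        exact ⟨k', hk'.symm⟩
      exact ⟨k', by
        have := congrArg (Subtype.val : M → Q) (hk.symm.trans hk')
        exact this⟩
    rw [Subgroup.mem_centralizer_iff]
    intro g hg
    obtain ⟨j, rfl⟩ := Subgroup.mem_zpowers_iff.1 (show g ∈ Subgroup.zpowers y' from hg)
    have h5 : Commute y' n := Subtype.ext h4.symm
    exact (h5.zpow_left j).eq
  obtain ⟨K, hKdef⟩ : ∃ K, K = (MonoidHom.transferSylow P hP).ker := ⟨_, rfl⟩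
  have hKn : K.Normal := by rw [hKdef]; infer_instance
  have hKs : ¬ s ∣ Nat.card K := by rw [hKdef]; exact MonoidHom.not_dvd_card_ker_transferSylow P hP
  have hKmem : ∀ g : M, g ∈ K ↔ ¬ s ∣ orderOf g := by
    intro g
    constructor
    · intro hg hd
      apply hKs
      exact hd.trans (by rw [← Subgroup.orderOf_mk g hg]; exact orderOf_dvd_natCard _)
    · intro hg
      rw [hKdef, MonoidHom.mem_ker, ← orderOf_eq_one_iff]
      have h3 : orderOf (MonoidHom.transferSylow P hP g) ∣ orderOf g := orderOf_map_dvd _ g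
      have h4 : orderOf (MonoidHom.transferSylow P hP g) ∣ s := by
        exact (orderOf_dvd_natCard (MonoidHom.transferSylow P hP g)).trans (dvd_of_eq hZc)
      rcases (Nat.dvd_prime hs).1 h4 with h5 | h5
      · exact h5
      · exact absurd (h5 ▸ h3) hg
  have hKc : K.Characteristic := by
    rw [Subgroup.characteristic_iff_comap_eq]
    intro φ
    ext g
    rw [Subgroup.mem_comap, hKmem, hKmem]
    have : orderOf (φ g) = orderOf g := MulEquiv.orderOf_eq φ g
    show ¬ s ∣ orderOf (φ g) ↔ _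
    rw [this]
  have hcompl : Nat.card K * s = Nat.card M := by
    have h3 := (MonoidHom.ker_transferSylow_isComplement' P hP).card_mul_card
    rw [← hKdef] at h3
    rw [← h3]
    congr 1
    exact hZc.symm
  -- the subgroups normalised by `y`
  have hcount : ∀ (l : ℕ) (hl : l.Prime) (L : Subgroup Q), L ≤ M → IsPGroup l L → (∀ r ∈ L, y * r * y⁻¹ ∈ L) →
      ∃ j c : ℕ, Nat.card L = l ^ j ∧ l ^ j ∣ Nat.card A ∧
        l ^ c ∣ Nat.card (A ⊓ Subgroup.centralizer {y} : Subgroup Q) ∧ l ^ j ≡ l ^ c [MOD s] := by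
    intro l hl L hLM hLp hLy
    have : Fact l.Prime := ⟨hl⟩
    obtain ⟨j, hj⟩ := IsPGroup.iff_card.1 hLp
    have h3 := card_modEq hs hys hLy
    obtain ⟨c, hc⟩ := IsPGroup.iff_card.1 (hLp.to_le (inf_le_left : L ⊓ Subgroup.centralizer {y} ≤ L))
    refine ⟨j, c, hj, by rw [← hj]; exact Subgroup.card_dvd_of_le (hLM.trans hMA), ?_, ?_⟩
    · rw [← hc]
      exact Subgroup.card_dvd_of_le (inf_le_inf_right _ (hLM.trans hMA))
    · rw [hj, hc] at h3
      exact h3
  have hKQ : Nat.card (K.map M.subtype) = Nat.card K := (Nat.card_congr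
    (K.equivMapOfInjective M.subtype M.subtype_injective).toEquiv).symm
  by_cases hK1 : K = ⊥
  · -- `M0 = Y` is abelian
    rw [hK1, Subgroup.card_bot, one_mul] at hcompl
    have h3 : ∀ g : M, g ∈ Subgroup.zpowers y' := by
      intro g
      have h4 : Subgroup.zpowers y' = ⊤ := Subgroup.eq_top_of_card_eq _ (by rw [hZc, hcompl])
      rw [h4]; trivial
    obtain ⟨K', hK'A, hK'Γ, hK'1, hK'ab⟩ := h.abM0 x hx (by
      intro a ha b hb
      obtain ⟨i, hi⟩ := Subgroup.mem_zpowers_iff.1 (h3 ⟨a, ha⟩)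
      obtain ⟨j, hj⟩ := Subgroup.mem_zpowers_iff.1 (h3 ⟨b, hb⟩)
      have h5 : (⟨a, ha⟩ : M) * ⟨b, hb⟩ = ⟨b, hb⟩ * ⟨a, ha⟩ := by
        rw [← hi, ← hj, ← zpow_add, ← zpow_add, add_comm]
      exact congrArg Subtype.val h5)
    apply hK'1
    apply hab K' hK'A _ hK'ab
    intro a ha k hk
    have := hK'Γ (MulAut.conj a) ((h.conj a).2 ha) k hk
    rwa [MulAut.conj_apply] at this
  · -- `K` is an `e`-group
    have hKe : ∀ l : ℕ, l.Prime → l ∣ Nat.card K → l = e := by
      intro l hl hlK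
      by_contra hle
      have : Fact l.Prime := ⟨hl⟩
      have hls : l ≠ s := fun h => hKs (h ▸ hlK)
      obtain ⟨R, hR⟩ := exists_inv_sylow hs hy' hKs l
      obtain ⟨j, c, hj, hjA, hcA, hjc⟩ := hcount l hl (((R : Subgroup K).map K.subtype).map M.subtype) (by
        rintro _ ⟨g, _, rfl⟩; exact g.2) ((R.2.map K.subtype).map M.subtype) (by
        rintro _ ⟨_, ⟨r, hr, rfl⟩, rfl⟩
        exact ⟨_, ⟨_, hR r hr, rfl⟩, rfl⟩)
      have hj' : Nat.card (R : Subgroup K) = l ^ j := by
        rw [← hj, Subgroup.card_map_of_injective (Subgroup.subtype_injective _), Subgroup.card_map_of_injective (Subgroup.subtype_injective _)]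
      have hj1 : 1 ≤ j := by
        by_contra hj0
        have : j = 0 := by omega
        rw [this, pow_zero] at hj'
        have h6 := R.card_eq_multiplicity
        rw [hj'] at h6
        have h7 := (hl.dvd_iff_one_le_factorization Nat.card_pos.ne').1 hlK
        have h8 := Nat.one_lt_pow (by omega : (Nat.card K).factorization l ≠ 0) hl.one_lt
        omega
      exact h1 l j c hl hls hle hj1 hjA hcA hjc
    have hKp : IsPGroup e K := by
      apply IsPGroup.of_card (n := (Nat.card K).primeFactorsList.length)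
      exact Nat.eq_prime_pow_of_unique_prime_dvd Nat.card_pos.ne' (fun {d} hd hdK => hKe d hd hdK)
    have hK1' : K.map M.subtype ≠ ⊥ := by
      rw [Ne, Subgroup.map_eq_bot_iff_of_injective _ M.subtype_injective]
      exact hK1
    have hKyn : ∀ r ∈ K.map M.subtype, y * r * y⁻¹ ∈ K.map M.subtype := by
      rintro _ ⟨r, hr, rfl⟩
      exact ⟨y' * r * y'⁻¹, hKn.conj_mem r hr y', rfl⟩
    obtain ⟨j, c, hj, hjA, hcA, hjc⟩ := hcount e he (K.map M.subtype) (by
      rintro _ ⟨g, _, rfl⟩; exact g.2) (hKp.map M.subtype) hKyn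
    refine h2 j c hjA ?_ hcA hjc
    intro hj1
    -- a larger `e`-subgroup
    have hcardA : Nat.card ((K.map M.subtype).subgroupOf A) = e ^ j := by
      rw [← hj]
      exact Nat.card_congr (Subgroup.subgroupOfEquivOfLe (by
        rintro _ ⟨g, _, rfl⟩; exact hMA g.2)).toEquiv
    obtain ⟨T, hT, hTle⟩ := Sylow.exists_subgroup_card_pow_succ (G := A) hj1 hcardA
    have h9 := h.sylow hx he (R := K.map M.subtype) (P := T.map A.subtype) (by
      intro g
      constructor
      · rintro ⟨r, hr, rfl⟩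
        refine ⟨r.2, ?_⟩
        obtain ⟨k, hk⟩ := hKp ⟨r, hr⟩
        exact ⟨k, congrArg (fun z : K => ((z : M) : Q)) hk⟩
      · rintro ⟨hg, k, hk⟩
        refine ⟨⟨g, hg⟩, ?_, rfl⟩
        rw [SetLike.mem_coe, hKmem]
        intro hd
        have h10 : orderOf (⟨g, hg⟩ : M) ∣ e ^ k := by
          rw [Subgroup.orderOf_mk]
          exact orderOf_dvd_of_pow_eq_one hk
        exact hes ((Nat.prime_dvd_prime_iff_eq he hs).1 (by
          have h11 := (Nat.Prime.dvd_of_dvd_pow hs (hd.trans h10))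
          rw [(Nat.prime_dvd_prime_iff_eq hs he).1 h11]))) hK1' (by
      rintro _ ⟨g, _, rfl⟩; exact g.2) ((IsPGroup.of_card hT).map A.subtype) (by
      rintro _ ⟨r, hr, rfl⟩
      have h12 : (⟨r, hMA r.2⟩ : A) ∈ T := hTle (Subgroup.mem_subgroupOf.2 ⟨r, hr, rfl⟩)
      exact ⟨_, h12, rfl⟩)
    have h13 : Nat.card T = Nat.card (T.map A.subtype) :=
      (Subgroup.card_map_of_injective (Subgroup.subtype_injective _)).symm
    rw [h9, hT, hj] at h13
    have h14 := Nat.pow_right_injective he.two_le h13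
    omega

end Cfsg.Agent.H901.EP
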