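import Cfsg.Agent.KFacts.J2.Basic
import Cfsg.Agent.J2Type.ThreeF
import Cfsg.Agent.J2Type.SylowSeven
import Cfsg.Agent.H109.Cov.Res
import Cfsg.Agent.H901.EP.PS

/-!
# S3499, row `J2` in `Sp6(q)`: facts on a group `A` with socle `J2` (helper901)
-/

set_option autoImplicit false
set_option linter.unusedSectionVars false

namespace Cfsg.Agent.H901.EP

open Subgroup Cfsg.Agent.H284

theorem card_j2 {S : Type*} [Group S] (h : Cfsg.Spor.IsoJ2 S) : Nat.card S = 604800 := by
  obtain ⟨e⟩ := h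
  rw [Nat.card_congr e.toEquiv]
  exact Cfsg.Agent.H109.Cov.card_j2

theorem conj_class {G : Type*} [Group G] [Finite G] {D : Subgroup G} {y : G} (hD : Nat.card D = 7)
    (hy : orderOf y = 7) (hyD : y ∈ D) (hc : ∀ g : G, g * y = y * g → g ∈ D)
    (hN : Nat.card (normalizer (D : Set G)) = 42) : ∃ u : G, u * y * u⁻¹ = y ^ 3 := by
  classical
  have hz : Subgroup.zpowers y = D := by
    apply Subgroup.eq_of_le_of_card_ge
    · rw [Subgroup.zpowers_le]; exact hyD
    · rw [Nat.card_zpowers, hy, hD]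
  let N := normalizer (D : Set G)
  let f : N → G := fun n => n * y * (n : G)⁻¹
  let O : Set G := Set.range f
  -- the fibres
  have hfib : ∀ n n' : N, f n = f n' → (n' : G)⁻¹ * n ∈ D := by
    intro n n' h
    apply hc
    have h1 : (n : G) * y * (n : G)⁻¹ = n' * y * (n' : G)⁻¹ := h
    calc (n' : G)⁻¹ * n * y = (n' : G)⁻¹ * (n * y * (n : G)⁻¹) * n := by group
      _ = (n' : G)⁻¹ * (n' * y * (n' : G)⁻¹) * n := by rw [h1]
      _ = y * ((n' : G)⁻¹ * n) := by group
  by_contra hcon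
  push Not at hcon
  have hO : O ⊆ ((D : Set G) \ {1, y ^ 3}) := by
    rintro _ ⟨n, rfl⟩
    refine ⟨?_, ?_⟩
    · exact (Subgroup.mem_normalizer_iff.1 n.2 y).1 hyD
    · simp only [Set.mem_insert_iff, Set.mem_singleton_iff, not_or]
      refine ⟨?_, hcon n⟩
      intro h
      have h1 : (n : G) * y * (n : G)⁻¹ = 1 := h
      have h2 : y = 1 := by
        have : y = (n : G)⁻¹ * (n * y * (n : G)⁻¹) * n := by group
        rw [this, h1]; group
      rw [h2, orderOf_one] at hy
      omega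
  have hDf : Finite D := Nat.finite_of_card_ne_zero (by rw [hD]; norm_num)
  have hOc : O.ncard ≤ 5 := by
    have h1 := Set.ncard_le_ncard hO (Set.toFinite _)
    have h2 : ((D : Set G) \ {1, y ^ 3}).ncard = 5 := by
      have hne : (1 : G) ≠ y ^ 3 := by
        intro h
        have := orderOf_dvd_of_pow_eq_one h.symm
        rw [hy] at this
        omega
      rw [Set.ncard_sdiff (by
        intro g hg
        simp only [Set.mem_insert_iff, Set.mem_singleton_iff] at hg
        rcases hg with rfl | rfl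
        · exact D.one_mem
        · exact D.pow_mem hyD 3), Set.ncard_pair hne]
      have : (D : Set G).ncard = 7 := hD
      rw [this]
    omega
  -- choose representatives
  have hOfin : Finite O := Set.toFinite O
  choose r hr using fun o : O => o.2
  have hle : Nat.card N ≤ Nat.card (O × D) := by
    refine Nat.card_le_card_of_injective (fun n : N => ((⟨f n, ⟨n, rfl⟩⟩ : O),
      (⟨((r ⟨f n, ⟨n, rfl⟩⟩ : N) : G)⁻¹ * n, hfib _ _ (hr ⟨f n, ⟨n, rfl⟩⟩).symm⟩ : D))) ?_
    intro n n' h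
    simp only [Prod.mk.injEq, Subtype.mk.injEq] at h
    obtain ⟨h1, h2⟩ := h
    apply Subtype.ext
    have h3 : (⟨f n, ⟨n, rfl⟩⟩ : O) = ⟨f n', ⟨n', rfl⟩⟩ := h1
    rw [h3] at h2
    exact mul_left_cancel h2
  rw [hN, Nat.card_prod, hD] at hle
  have hOc' : Nat.card O ≤ 5 := hOc
  omega

/-- an element of order 7 of `J2` -/
theorem exists_seven {S : Type*} [Group S] [Finite S] (h : Cfsg.Spor.IsoJ2 S) :
    ∃ y u : S, orderOf y = 7 ∧ (∀ g : S, g * y = y * g → g ∈ Subgroup.zpowers y) ∧ u * y * u⁻¹ = y ^ 3 := by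
  have : Fact (Nat.Prime 7) := ⟨by norm_num⟩
  obtain ⟨e⟩ := h
  have hfin : Finite Cfsg.Spor.J2 := Finite.of_equiv _ e.toEquiv
  obtain ⟨t, u, Q, v, ρ, D⟩ := Cfsg.Agent.KFacts.J2.Basic.exists_dat
  have hG : Nat.card Cfsg.Spor.J2 = 604800 := Cfsg.Agent.J2Type.Order.card_of_fus D.F
  obtain ⟨P⟩ : Nonempty (Sylow 7 Cfsg.Spor.J2) := inferInstance
  obtain ⟨h1, h2, -⟩ := Cfsg.Agent.J2Type.SylowSeven.sylow_seven hG (Cfsg.Agent.J2Type.ThreeF.not_seven_dvd_two D.F)
    (Cfsg.Agent.J2Type.ThreeF.not_seven_dvd_three D.F) P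
  have hP : Nat.card (P : Subgroup Cfsg.Spor.J2) = 7 := by
    rw [P.card_eq_multiplicity, hG]
    have : (604800 : ℕ).factorization 7 = 1 := by
      rw [show (604800 : ℕ) = 7 * 86400 by norm_num, Nat.factorization_mul (by norm_num) (by norm_num),
        Finsupp.add_apply, (by norm_num : Nat.Prime 7).factorization_self,
        Nat.factorization_eq_zero_of_not_dvd (by norm_num)]
    rw [this, pow_one]
  have hcyc : IsCyclic (P : Subgroup Cfsg.Spor.J2) := isCyclic_of_prime_card hP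
  obtain ⟨⟨x, hxP⟩, hx⟩ := hcyc.exists_generator
  have hx7 : orderOf x = 7 := by
    rw [← hP, ← orderOf_eq_card_of_forall_mem_zpowers hx]
    exact (Subgroup.orderOf_mk x hxP).symm
  have hz : Subgroup.zpowers x = (P : Subgroup Cfsg.Spor.J2) := by
    apply Subgroup.eq_of_le_of_card_ge
    · rw [Subgroup.zpowers_le]; exact hxP
    · rw [Nat.card_zpowers, hx7, hP]
  have hc : ∀ g, g * x = x * g → g ∈ (P : Subgroup Cfsg.Spor.J2) := by
    intro g hg
    rw [← h1, Subgroup.mem_centralizer_iff]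
    intro k hk
    rw [← hz] at hk
    obtain ⟨j, rfl⟩ := Subgroup.mem_zpowers_iff.1 hk
    have : Commute g x := hg
    exact (this.symm.zpow_left j).eq
  obtain ⟨w, hw⟩ := conj_class hP hx7 hxP hc h2
  refine ⟨e.symm x, e.symm w, ?_, ?_, ?_⟩
  · rw [← hx7]; exact MulEquiv.orderOf_eq e.symm x
  · intro g hg
    have h3 : e g * x = x * e g := by
      have := congrArg e hg
      rw [map_mul, map_mul, e.apply_symm_apply] at this
      exact this
    have h4 := hc _ h3
    rw [← hz] at h4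
    obtain ⟨j, hj⟩ := Subgroup.mem_zpowers_iff.1 h4
    refine Subgroup.mem_zpowers_iff.2 ⟨j, ?_⟩
    apply e.injective
    rw [map_zpow, e.apply_symm_apply, hj]
  · apply e.injective
    rw [map_mul, map_mul, map_inv, map_pow, e.apply_symm_apply, e.apply_symm_apply, hw]

/-- facts on a group with socle `J2` -/
theorem facts {Q : Type*} [Group Q] [Finite Q] {A N : Subgroup Q} (hNA : N ≤ A)
    (hN : ∀ a ∈ A, ∀ n ∈ N, a * n * a⁻¹ ∈ N) (hC : ∀ a ∈ A, (∀ n ∈ N, a * n = n * a) → a = 1)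
    (hJ : Cfsg.Spor.IsoJ2 N) :
    ∃ y u : Q, y ∈ N ∧ u ∈ N ∧ orderOf y = 7 ∧ u * y * u⁻¹ = y ^ 3 ∧
      (∀ g ∈ N, g * y = y * g → g ∈ Subgroup.zpowers y) ∧
      ((Nat.card A = 604800 ∧ Nat.card (A ⊓ Subgroup.centralizer {y} : Subgroup Q) = 7) ∨
        (Nat.card A = 1209600 ∧ Nat.card (A ⊓ Subgroup.centralizer {y} : Subgroup Q) ∣ 14)) := by
  obtain ⟨y, u, hy, hc, hu⟩ := exists_seven hJ
  have hcN := card_j2 hJ
  have hy' : orderOf (y : Q) = 7 := by rw [Subgroup.orderOf_coe, hy]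
  have hcN' : ∀ g ∈ N, g * (y : Q) = y * g → g ∈ Subgroup.zpowers (y : Q) := by
    intro g hg hgy
    obtain ⟨j, hj⟩ := Subgroup.mem_zpowers_iff.1 (hc ⟨g, hg⟩ (Subtype.ext hgy))
    exact Subgroup.mem_zpowers_iff.2 ⟨j, by rw [← Subgroup.coe_zpow, hj]⟩
  -- the group `A`
  let N' : Subgroup A := N.subgroupOf A
  have hN' : N'.Normal := ⟨fun n hn a => hN a a.2 n hn⟩
  let eN : N' ≃* N := Subgroup.subgroupOfEquivOfLe hNA
  have hJ' : Cfsg.Spor.IsoJ2 N' := by
    obtain ⟨e⟩ := hJ
    exact ⟨eN.trans e⟩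
  have hcardN' : Nat.card N' = 604800 := card_j2 hJ'
  have h1 : Nat.card A ∣ 1209600 := by
    refine dvd_trans ?_ (Cfsg.Agent.H109.Cov.aut_j2 hJ')
    have hinj : Function.Injective (MulAut.conjNormal (H := N')) := by
      rw [injective_iff_map_eq_one]
      intro a ha
      apply Subtype.ext
      apply hC a a.2
      intro n hn
      have h2 : MulAut.conjNormal a (⟨⟨n, hNA hn⟩, hn⟩ : N') = ⟨⟨n, hNA hn⟩, hn⟩ := by rw [ha]; rfl
      have h3 : (a : Q) * n * (a : Q)⁻¹ = n := congrArg (fun z : N' => ((z : A) : Q)) h2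
      exact mul_inv_eq_iff_eq_mul.1 h3
    exact Subgroup.card_dvd_of_injective _ hinj
  have h2 : 604800 ∣ Nat.card A := by rw [← hcN]; exact Subgroup.card_dvd_of_le hNA
  have h3 : Nat.card A = 604800 ∨ Nat.card A = 1209600 := by
    obtain ⟨a, ha⟩ := h2
    obtain ⟨b, hb⟩ := h1
    rw [ha] at hb
    have h4 : a * b = 2 := by nlinarith
    have ha2 : a ∣ 2 := ⟨b, h4.symm⟩
    rcases (Nat.dvd_prime Nat.prime_two).1 ha2 with rfl | rfl
    · left; rw [ha]
    · right; rw [ha]
  -- the centralizer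
  let yA : A := ⟨y, hNA y.2⟩
  have hCc : Nat.card (A ⊓ Subgroup.centralizer {(y : Q)} : Subgroup Q) =
      Nat.card (Subgroup.centralizer ({yA} : Set A)) := by
    refine Nat.card_congr ⟨fun g => ⟨⟨g.1, g.2.1⟩, Subgroup.mem_centralizer_singleton_iff.2
      (Subtype.ext (Subgroup.mem_centralizer_singleton_iff.1 g.2.2))⟩, fun g => ⟨g.1.1, g.1.2,
      Subgroup.mem_centralizer_singleton_iff.2 (congrArg Subtype.val (Subgroup.mem_centralizer_singleton_iff.1 g.2))⟩,
      fun g => rfl, fun g => rfl⟩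
  let C' := Subgroup.centralizer ({yA} : Set A)
  have h5 : Nat.card (N' ⊓ C' : Subgroup A) = 7 := by
    have h6 : (N' ⊓ C' : Subgroup A) = Subgroup.zpowers yA := by
      apply le_antisymm
      · intro g hg
        obtain ⟨j, hj⟩ := Subgroup.mem_zpowers_iff.1 (hcN' g hg.1
          (congrArg Subtype.val (Subgroup.mem_centralizer_singleton_iff.1 hg.2)))
        exact Subgroup.mem_zpowers_iff.2 ⟨j, Subtype.ext hj⟩
      · rw [Subgroup.zpowers_le]
        exact ⟨y.2, Subgroup.mem_centralizer_singleton_iff.2 rfl⟩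
    rw [h6, Nat.card_zpowers, ← hy']
    exact Subgroup.orderOf_mk _ _
  have h6 : Nat.card C' = 7 * N'.relIndex C' := by
    have h7 := Subgroup.relIndex_mul_relIndex ⊥ (N' ⊓ C') C' bot_le inf_le_right
    rw [Subgroup.relIndex_bot_left, Subgroup.relIndex_bot_left, h5, Subgroup.inf_relIndex_right] at h7
    exact h7.symm
  have h7 : N'.relIndex C' ∣ N'.index := Subgroup.relIndex_dvd_index_of_normal N' C'
  have h8 : 604800 * N'.index = Nat.card A := by rw [← hcardN']; exact N'.card_mul_index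
  refine ⟨y, u, y.2, u.2, hy', ?_, hcN', ?_⟩
  · have := congrArg Subtype.val hu
    exact this
  · rw [hCc]
    rcases h3 with h3 | h3
    · left
      refine ⟨h3, ?_⟩
      rw [h3] at h8
      have h9 : N'.index = 1 := by omega
      rw [h9, Nat.dvd_one] at h7
      show Nat.card C' = 7
      rw [h6, h7]
    · right
      refine ⟨h3, ?_⟩
      rw [h3] at h8
      have h9 : N'.index = 2 := by omega
      rw [h9] at h7
      show Nat.card C' ∣ 14
      rw [h6]
      exact Nat.mul_dvd_mul_left 7 h7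

end Cfsg.Agent.H901.EP
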