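import Cfsg.Agent.H901.EP.Count

/-!
# S3499, row `J2` in `Sp6(q)`: a lower bound by Cayley transforms (helper901)
-/

set_option autoImplicit false
set_option linter.unusedSectionVars false

open Polynomial Matrix Cfsg
open scoped MatrixGroups

namespace Cfsg.Agent.H901.EP

section low
variable {F : Type*} [Field F] {m : ℕ} {K : Type*} [Field K] [Algebra F K]

/-- the skew polynomials -/
noncomputable def gc (c : F × F × F) : F[X] :=
  C c.1 * (X - X ^ 6) + C c.2.1 * (X ^ 2 - X ^ 5) + C c.2.2 * (X ^ 3 - X ^ 4)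

theorem gc_eval {R : Type*} [Ring R] [Algebra F R] {y : R} (c : F × F × F) :
    aeval y (gc c) = algebraMap F R c.1 * (y - y ^ 6) + algebraMap F R c.2.1 * (y ^ 2 - y ^ 5) +
      algebraMap F R c.2.2 * (y ^ 3 - y ^ 4) := by
  simp only [gc, map_add, map_mul, map_sub, map_pow, aeval_X, aeval_C]

theorem gc_six {R : Type*} [Ring R] [Algebra F R] {y : R} (h7 : y ^ 7 = 1) (c : F × F × F) :
    aeval (y ^ 6) (gc c) = -aeval y (gc c) := by
  have p : ∀ k r : ℕ, y ^ (7 * k + r) = y ^ r := by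
    intro k r
    rw [pow_add, pow_mul, h7, one_pow, one_mul]
  rw [gc_eval, gc_eval]
  have e1 : (y ^ 6) ^ 6 = y := by rw [← pow_mul, show 6 * 6 = 7 * 5 + 1 by norm_num, p, pow_one]
  have e2 : (y ^ 6) ^ 2 = y ^ 5 := by rw [← pow_mul, show 6 * 2 = 7 * 1 + 5 by norm_num, p]
  have e3 : (y ^ 6) ^ 5 = y ^ 2 := by rw [← pow_mul, show 6 * 5 = 7 * 4 + 2 by norm_num, p]
  have e4 : (y ^ 6) ^ 3 = y ^ 4 := by rw [← pow_mul, show 6 * 3 = 7 * 2 + 4 by norm_num, p]
  have e5 : (y ^ 6) ^ 4 = y ^ 3 := by rw [← pow_mul, show 6 * 4 = 7 * 3 + 3 by norm_num, p]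
  rw [e1, e2, e3, e4, e5]
  noncomm_ring

theorem gc_sub (c d : F × F × F) : gc c - gc d = gc (c - d) := by
  simp only [gc, Prod.fst_sub, Prod.snd_sub, C_sub]
  ring

variable {Y : GL (Fin m ⊕ Fin m) F} {hY : Y ∈ spGL m F} {h7 : Y ^ 7 = 1} {ζ : K} (h : Sev K Y.1 ζ)
include h

theorem gc_inj {c d : F × F × F} (hcd : aeval Y.1 (gc c) = aeval Y.1 (gc d)) : c = d := by
  obtain ⟨e, he⟩ : ∃ e, e = c - d := ⟨_, rfl⟩
  have h0 : aeval Y.1 (gc e) = 0 := by rw [he, ← gc_sub, map_sub, hcd, sub_self]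
  let H : F[X] := C e.1 + C e.2.1 * X + C e.2.2 * X ^ 2 + C (-e.2.2) * X ^ 3 + C (-e.2.1) * X ^ 4 + C (-e.1) * X ^ 5
  have hH : gc e = X * H := by
    simp only [gc, H, C_neg]
    ring
  have hd : H.degree < 6 := by
    have h1 : H.natDegree ≤ 5 := by
      simp only [H]
      compute_degree
    refine lt_of_le_of_lt Polynomial.degree_le_natDegree ?_
    exact_mod_cast lt_of_le_of_lt h1 (by norm_num)
  have hζ0 : ζ ≠ 0 := by
    rintro rfl
    have := h.seven
    rw [zero_pow (by norm_num)] at this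
    exact zero_ne_one this
  have hH0 : H = 0 := by
    apply h.eq_zero_of_degree hd
    intro j hj
    have h1 := h.val h0 hj
    rw [hH, map_mul, aeval_X] at h1
    exact (mul_eq_zero.1 h1).resolve_left (pow_ne_zero _ hζ0)
  have c0 := congrArg (fun p : F[X] => p.coeff 0) hH0
  have c1 := congrArg (fun p : F[X] => p.coeff 1) hH0
  have c2 := congrArg (fun p : F[X] => p.coeff 2) hH0
  simp [H, coeff_X, coeff_C] at c0 c1 c2
  have : e = 0 := Prod.ext c0 (Prod.ext c1 c2)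
  rw [he] at this
  exact sub_eq_zero.1 this

/-- the good parameters -/
def Good (ζ : K) (c : F × F × F) : Prop := ∀ j : ℕ, ¬ 7 ∣ j → aeval (ζ ^ j) (gc c) ≠ 1

theorem exists_cayley [Finite F] (hm : m = 3) {c : F × F × F} (hc : Good ζ c) :
    ∃ t : wg Y hY h7, t.1.1 * (1 - aeval Y.1 (gc c)) = 1 + aeval Y.1 (gc c) := by
  obtain ⟨k, hk⟩ := h.exists_inv (g := 1 - gc c) (by subst hm; simp) (by
    intro j hj h0
    rw [map_sub, map_one, sub_eq_zero] at h0
    exact hc j hj h0.symm)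
  rw [map_sub, map_one] at hk
  have h7' : (Y.1) ^ 7 = 1 := by rw [← Units.val_pow_eq_pow_val, h7]; rfl
  obtain ⟨t, ht, ht2⟩ := cayley (hY := hY) (h7 := h7) (g := gc c) (k := k) (by
    rw [Polynomial.aeval_comp, map_pow, aeval_X]
    exact gc_six h7' c) hk
  exact ⟨⟨t, ht⟩, ht2⟩

/-- distinct parameters give distinct elements -/
theorem cayley_inj (h2 : (2 : F) ≠ 0) {c d : F × F × F} {t : GL (Fin m ⊕ Fin m) F}
    (hc : t.1 * (1 - aeval Y.1 (gc c)) = 1 + aeval Y.1 (gc c))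
    (hd : t.1 * (1 - aeval Y.1 (gc d)) = 1 + aeval Y.1 (gc d)) : c = d := by
  apply gc_inj h
  obtain ⟨a, ha⟩ : ∃ a, a = aeval Y.1 (gc c) := ⟨_, rfl⟩
  obtain ⟨b, hb⟩ : ∃ b, b = aeval Y.1 (gc d) := ⟨_, rfl⟩
  rw [← ha] at hc ⊢
  rw [← hb] at hd ⊢
  have h3 : (t.1 + 1) * a = (t.1 + 1) * b := by
    have e1 : (t.1 + 1) * a = t.1 - 1 := by
      have : t.1 - t.1 * a = 1 + a := by rw [← hc]; noncomm_ring
      rw [sub_eq_iff_eq_add] at this
      calc (t.1 + 1) * a = (1 + a + t.1 * a) - 1 := by rw [add_mul, one_mul]; abel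
        _ = t.1 - 1 := by rw [← this]
    have e2 : (t.1 + 1) * b = t.1 - 1 := by
      have : t.1 - t.1 * b = 1 + b := by rw [← hd]; noncomm_ring
      rw [sub_eq_iff_eq_add] at this
      calc (t.1 + 1) * b = (1 + b + t.1 * b) - 1 := by rw [add_mul, one_mul]; abel
        _ = t.1 - 1 := by rw [← this]
    rw [e1, e2]
  -- `t + 1` is invertible
  have h5 : (t.1 + 1) * (1 - a) = (2 : F) • (1 : Matrix (Fin m ⊕ Fin m) (Fin m ⊕ Fin m) F) := by
    rw [add_mul, hc, one_mul, two_smul]; abel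
  have h6 : ((2 : F)⁻¹ • (1 - a)) * (t.1 + 1) = 1 := by
    apply mul_eq_one_comm.1
    rw [mul_smul_comm, h5, smul_smul, inv_mul_cancel₀ h2, one_smul]
  calc a = ((2 : F)⁻¹ • (1 - a)) * (t.1 + 1) * a := by rw [h6, one_mul]
    _ = ((2 : F)⁻¹ • (1 - a)) * (t.1 + 1) * b := by rw [mul_assoc, h3, mul_assoc]
    _ = b := by rw [h6, one_mul]

theorem card_good [Finite F] (hm : m = 3) (h2 : (2 : F) ≠ 0) :
    {c : F × F × F | Good ζ c}.ncard ≤ Nat.card (wg Y hY h7) := by
  have hfin : Finite (wg Y hY h7) := inferInstance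
  have hex : ∀ c : {c : F × F × F | Good ζ c}, ∃ t : wg Y hY h7,
      t.1.1 * (1 - aeval Y.1 (gc c.1)) = 1 + aeval Y.1 (gc c.1) := fun c => exists_cayley h hm c.2
  choose t ht using hex
  refine Nat.card_le_card_of_injective t ?_
  intro c d hcd
  apply Subtype.ext
  apply cayley_inj h h2 (ht c)
  rw [hcd]
  exact ht d

omit h in
/-- the number of parameters with value 1 at `ζ ^ j` -/
theorem card_bad_one [Finite F] (h : Sev K Y.1 ζ) {j : ℕ} (hj : ¬ 7 ∣ j) :
    {c : F × F × F | aeval (ζ ^ j) (gc c) = 1}.ncard ≤ Nat.card F ^ 2 := by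
  have hne : ζ ^ j - (ζ ^ j) ^ 6 ≠ 0 := by
    intro h0
    rw [sub_eq_zero, ← pow_mul] at h0
    have := h.pow_inj h0
    omega
  have hinj : Set.InjOn (fun c : F × F × F => c.2) {c : F × F × F | aeval (ζ ^ j) (gc c) = 1} := by
    rintro ⟨a, b⟩ hc ⟨a', b'⟩ hd hcd
    have hb : b = b' := hcd
    subst hb
    have h1 : aeval (ζ ^ j) (gc (a, b)) = 1 := hc
    have h2 : aeval (ζ ^ j) (gc (a', b)) = 1 := hd
    rw [gc_eval] at h1 h2
    have h3 : (algebraMap F K a - algebraMap F K a') * (ζ ^ j - (ζ ^ j) ^ 6) = 0 := by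
      linear_combination h1 - h2
    have h4 := (mul_eq_zero.1 h3).resolve_right hne
    rw [sub_eq_zero] at h4
    rw [(algebraMap F K).injective h4]
  have h5 : Nat.card (F × F) = Nat.card F ^ 2 := by rw [Nat.card_prod, pow_two]
  rw [← h5, ← Set.ncard_univ]
  exact Set.ncard_le_ncard_of_injOn _ (fun _ _ => Set.mem_univ _) hinj (Set.toFinite _)

theorem card_bad [Finite F] : Nat.card F ^ 3 ≤ {c : F × F × F | Good ζ c}.ncard + 6 * Nat.card F ^ 2 := by
  classical
  have h1 : (Set.univ : Set (F × F × F)) ⊆ {c : F × F × F | Good ζ c} ∪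
      ⋃ i ∈ Finset.range 6, {c : F × F × F | aeval (ζ ^ (i + 1)) (gc c) = 1} := by
    intro c _
    by_cases hc : Good ζ c
    · exact Or.inl hc
    · right
      rw [Good] at hc
      push Not at hc
      obtain ⟨j, hj, hj1⟩ := hc
      refine Set.mem_iUnion₂.2 ⟨j % 7 - 1, Finset.mem_range.2 (by omega), ?_⟩
      have h2 : ζ ^ (j % 7 - 1 + 1) = ζ ^ j := h.hmod (by omega)
      show aeval (ζ ^ (j % 7 - 1 + 1)) (gc c) = 1
      rw [h2]
      exact hj1
  have h2 := Set.ncard_le_ncard h1 (Set.toFinite _)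
  have h3 : (Set.univ : Set (F × F × F)).ncard = Nat.card F ^ 3 := by
    rw [Set.ncard_univ, Nat.card_prod, Nat.card_prod]; ring
  rw [h3] at h2
  refine h2.trans ((Set.ncard_union_le _ _).trans (Nat.add_le_add_left ?_ _))
  have h4 : ∀ s : Finset ℕ, s ⊆ Finset.range 6 → (⋃ i ∈ s, {c : F × F × F | aeval (ζ ^ (i + 1)) (gc c) = 1}).ncard ≤
      s.card * Nat.card F ^ 2 := by
    intro s
    induction s using Finset.induction_on with
    | empty => intro _; simp
    | insert i s his ih =>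
      intro hs
      rw [Finset.set_biUnion_insert, Finset.card_insert_of_notMem his, add_mul, one_mul]
      have hi := Finset.mem_range.1 (hs (Finset.mem_insert_self i s))
      have h6 := ih fun k hk => hs (Finset.mem_insert_of_mem hk)
      have h7 := card_bad_one h (j := i + 1) (by omega)
      have h8 := Set.ncard_union_le {c : F × F × F | aeval (ζ ^ (i + 1)) (gc c) = 1}
        (⋃ i ∈ s, {c : F × F × F | aeval (ζ ^ (i + 1)) (gc c) = 1})
      linarith
  have h5 := h4 (Finset.range 6) subset_rfl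
  rw [Finset.card_range] at h5
  exact h5

/-- **the lower bound** -/
theorem card_wg [Finite F] (hm : m = 3) (h2 : (2 : F) ≠ 0) :
    Nat.card F ^ 3 ≤ Nat.card (wg Y hY h7) + 6 * Nat.card F ^ 2 :=
  (card_bad h).trans (Nat.add_le_add_right (card_good h hm h2) _)

end low

end Cfsg.Agent.H901.EP
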