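import Cfsg.Agent.H901.EP.Eig
import Cfsg.Prelude.Def_ClassicalGeometry

/-!
# S3499, row `J2` in `Sp6(q)`: symplectic elements in the algebra generated by an element `Y` of order 7 (helper901)
-/

set_option autoImplicit false
set_option linter.unusedSectionVars false

open Polynomial Matrix Cfsg
open scoped MatrixGroups

namespace Cfsg.Agent.H901.EP

variable {F : Type*} [Field F] {m : ℕ}

/-- the adjoint -/
def st (B : Matrix (Fin m ⊕ Fin m) (Fin m ⊕ Fin m) F) : Matrix (Fin m ⊕ Fin m) (Fin m ⊕ Fin m) F :=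
  -(Matrix.J (Fin m) F * Bᵀ * Matrix.J (Fin m) F)

local notation "JJ" => Matrix.J (Fin m) F

theorem st_one : st (1 : Matrix (Fin m ⊕ Fin m) (Fin m ⊕ Fin m) F) = 1 := by
  rw [st, Matrix.transpose_one, mul_one, Matrix.J_squared, neg_neg]

theorem st_mul (A B : Matrix (Fin m ⊕ Fin m) (Fin m ⊕ Fin m) F) : st (A * B) = st B * st A := by
  rw [st, st, st, neg_mul_neg, Matrix.transpose_mul]
  calc -(JJ * (Bᵀ * Aᵀ) * JJ) = JJ * Bᵀ * (-1) * Aᵀ * JJ := by
        simp only [mul_assoc, neg_mul, mul_neg, one_mul]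
    _ = JJ * Bᵀ * (JJ * JJ) * Aᵀ * JJ := by rw [Matrix.J_squared]
    _ = _ := by simp only [mul_assoc]

theorem st_add (A B : Matrix (Fin m ⊕ Fin m) (Fin m ⊕ Fin m) F) : st (A + B) = st A + st B := by
  rw [st, st, st, Matrix.transpose_add, mul_add, add_mul, neg_add]

theorem st_smul (c : F) (A : Matrix (Fin m ⊕ Fin m) (Fin m ⊕ Fin m) F) : st (c • A) = c • st A := by
  rw [st, st, Matrix.transpose_smul, Matrix.mul_smul, Matrix.smul_mul, smul_neg]

theorem st_pow (A : Matrix (Fin m ⊕ Fin m) (Fin m ⊕ Fin m) F) (n : ℕ) : st (A ^ n) = st A ^ n := by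
  induction n with
  | zero => rw [pow_zero, pow_zero, st_one]
  | succ n ih => rw [pow_succ, st_mul, ih, pow_succ']

theorem st_aeval (A : Matrix (Fin m ⊕ Fin m) (Fin m ⊕ Fin m) F) (f : F[X]) : st (aeval A f) = aeval (st A) f := by
  induction f using Polynomial.induction_on' with
  | add f g hf hg => rw [map_add, st_add, hf, hg, map_add]
  | monomial n a =>
    rw [aeval_monomial, aeval_monomial, Algebra.algebraMap_eq_smul_one, smul_mul_assoc, one_mul, st_smul, st_pow,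
      smul_mul_assoc, one_mul]

theorem form_st (B : Matrix (Fin m ⊕ Fin m) (Fin m ⊕ Fin m) F) (u v : Fin m ⊕ Fin m → F) :
    sympForm m F (B *ᵥ u) v = sympForm m F u (st B *ᵥ v) := by
  rw [sympForm, sympForm, st, Matrix.mulVec_mulVec, mul_neg, ← mul_assoc, ← mul_assoc, Matrix.J_squared, neg_mul,
    neg_mul, neg_neg, one_mul, ← Matrix.mulVec_mulVec, Matrix.dotProduct_mulVec u, Matrix.vecMul_transpose]

theorem mem_spGL_iff {g : GL (Fin m ⊕ Fin m) F} : g ∈ spGL m F ↔ st g.1 * g.1 = 1 := by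
  have h0 : g ∈ spGL m F ↔ ∀ u v, sympForm m F (g.1 *ᵥ u) (g.1 *ᵥ v) = sympForm m F u v :=
    Iff.rfl
  rw [h0]
  constructor
  · intro h
    have h1 : ∀ u v : Fin m ⊕ Fin m → F, u ⬝ᵥ (JJ *ᵥ ((st g.1 * g.1) *ᵥ v)) =
        u ⬝ᵥ (JJ *ᵥ v) := by
      intro u v
      have := h u v
      rw [form_st, Matrix.mulVec_mulVec, sympForm, sympForm] at this
      exact this
    have h2 : ∀ v : Fin m ⊕ Fin m → F, JJ *ᵥ ((st g.1 * g.1) *ᵥ v) = JJ *ᵥ v := by
      intro v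
      funext i
      have := h1 (Pi.single i 1) v
      rwa [single_one_dotProduct, single_one_dotProduct] at this
    apply Matrix.ext_of_mulVec_single
    intro i
    have h3 := congrArg (fun v => JJ *ᵥ v) (h2 (Pi.single i 1))
    simp only [Matrix.mulVec_mulVec, ← mul_assoc, Matrix.J_squared] at h3
    rw [neg_mul, neg_mul, Matrix.neg_mulVec, Matrix.neg_mulVec, neg_inj, one_mul] at h3
    exact h3
  · intro h u v
    rw [form_st, Matrix.mulVec_mulVec, h, Matrix.one_mulVec]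

theorem st_eq_inv {g : GL (Fin m ⊕ Fin m) F} (hg : g ∈ spGL m F) : st g.1 = (g⁻¹).1 := by
  have h1 := mem_spGL_iff.1 hg
  calc st g.1 = st g.1 * (g.1 * (g⁻¹).1) := by rw [← Units.val_mul, mul_inv_cancel, Units.val_one, mul_one]
    _ = (g⁻¹).1 := by rw [← mul_assoc, h1, one_mul]

section group
variable (Y : GL (Fin m ⊕ Fin m) F)

/-- the symplectic elements in the algebra generated by `Y` -/
def wg (hY : Y ∈ spGL m F) (h7 : Y ^ 7 = 1) : Subgroup (GL (Fin m ⊕ Fin m) F) where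
  carrier := {g | g ∈ spGL m F ∧ ∃ f : F[X], g.1 = aeval Y.1 f}
  one_mem' := ⟨(spGL m F).one_mem, 1, by rw [map_one]; rfl⟩
  mul_mem' := by
    rintro a b ⟨ha, f, hf⟩ ⟨hb, g, hg⟩
    exact ⟨(spGL m F).mul_mem ha hb, f * g, by rw [map_mul, ← hf, ← hg]; rfl⟩
  inv_mem' := by
    rintro a ⟨ha, f, hf⟩
    refine ⟨(spGL m F).inv_mem ha, f.comp (X ^ 6), ?_⟩
    have h1 : Y⁻¹ = Y ^ 6 := inv_eq_of_mul_eq_one_right (by rw [← pow_succ', h7])
    rw [← st_eq_inv ha, hf, st_aeval, st_eq_inv hY, h1, Polynomial.aeval_comp, map_pow, aeval_X]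
    rfl

variable {Y} {hY : Y ∈ spGL m F} {h7 : Y ^ 7 = 1}

theorem wg_comm {a b : GL (Fin m ⊕ Fin m) F} (ha : a ∈ wg Y hY h7) (hb : b ∈ wg Y hY h7) : a * b = b * a := by
  obtain ⟨-, f, hf⟩ := ha
  obtain ⟨-, g, hg⟩ := hb
  apply Units.ext
  rw [Units.val_mul, Units.val_mul, hf, hg, ← map_mul, ← map_mul, mul_comm]

theorem wg_comm_Y {a : GL (Fin m ⊕ Fin m) F} (ha : a ∈ wg Y hY h7) : a * Y = Y * a := by
  obtain ⟨-, f, hf⟩ := ha
  apply Units.ext
  rw [Units.val_mul, Units.val_mul, hf]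
  calc aeval Y.1 f * Y.1 = aeval Y.1 f * aeval Y.1 (X : F[X]) := by rw [aeval_X]
    _ = aeval Y.1 (X : F[X]) * aeval Y.1 f := by rw [← map_mul, ← map_mul, mul_comm]
    _ = Y.1 * aeval Y.1 f := by rw [aeval_X]

/-- conjugation by an element which raises `Y` to a power -/
theorem conj_poly {b : GL (Fin m ⊕ Fin m) F} {k : ℕ} (hb : b * Y * b⁻¹ = Y ^ k) {a : GL (Fin m ⊕ Fin m) F} {f : F[X]}
    (hf : a.1 = aeval Y.1 f) : (b * a * b⁻¹).1 = aeval Y.1 (f.comp (X ^ k)) := by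
  have h1 : ∀ f : F[X], b.1 * aeval Y.1 f * (b⁻¹).1 = aeval (Y ^ k).1 f := by
    intro f
    have hb1 : b.1 * (b⁻¹).1 = 1 := by rw [← Units.val_mul, mul_inv_cancel]; rfl
    have hb2 : (b⁻¹).1 * b.1 = 1 := by rw [← Units.val_mul, inv_mul_cancel]; rfl
    have hp : ∀ n : ℕ, b.1 * Y.1 ^ n * (b⁻¹).1 = (Y ^ k).1 ^ n := by
      intro n
      rw [← hb]
      induction n with
      | zero => rw [pow_zero, pow_zero, mul_one, hb1]
      | succ n ih =>
        rw [pow_succ, pow_succ, ← ih]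
        show _ = b.1 * Y.1 ^ n * (b⁻¹).1 * (b.1 * Y.1 * (b⁻¹).1)
        calc b.1 * (Y.1 ^ n * Y.1) * (b⁻¹).1 = b.1 * Y.1 ^ n * 1 * (Y.1 * (b⁻¹).1) := by
              rw [mul_one]; simp only [mul_assoc]
          _ = b.1 * Y.1 ^ n * ((b⁻¹).1 * b.1) * (Y.1 * (b⁻¹).1) := by rw [hb2]
          _ = _ := by simp only [mul_assoc]
    induction f using Polynomial.induction_on' with
    | add f g hf hg => rw [map_add, mul_add, add_mul, hf, hg, map_add]
    | monomial n a =>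
      rw [aeval_monomial, aeval_monomial, Algebra.algebraMap_eq_smul_one, smul_mul_assoc, one_mul, mul_smul_comm,
        smul_mul_assoc, hp, smul_mul_assoc, one_mul]
  show b.1 * a.1 * (b⁻¹).1 = _
  rw [hf, h1, Polynomial.aeval_comp, map_pow, aeval_X]
  rfl

theorem conj_mem {b : GL (Fin m ⊕ Fin m) F} (hbS : b ∈ spGL m F) {k : ℕ} (hb : b * Y * b⁻¹ = Y ^ k)
    {a : GL (Fin m ⊕ Fin m) F} (ha : a ∈ wg Y hY h7) : b * a * b⁻¹ ∈ wg Y hY h7 := by
  obtain ⟨haS, f, hf⟩ := ha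
  exact ⟨(spGL m F).mul_mem ((spGL m F).mul_mem hbS haS) ((spGL m F).inv_mem hbS), _, conj_poly hb hf⟩

/-- elements with the same action on `Y` act in the same way -/
theorem conj_eq {b c : GL (Fin m ⊕ Fin m) F} {k : ℕ} (hb : b * Y * b⁻¹ = Y ^ k) (hc : c * Y * c⁻¹ = Y ^ k)
    {a : GL (Fin m ⊕ Fin m) F} (ha : a ∈ wg Y hY h7) : b * a * b⁻¹ = c * a * c⁻¹ := by
  obtain ⟨haS, f, hf⟩ := ha
  apply Units.ext
  rw [conj_poly hb hf, conj_poly hc hf]

/-- elements which invert `Y` invert everything -/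
theorem conj_inv {b : GL (Fin m ⊕ Fin m) F} (hb : b * Y * b⁻¹ = Y ^ 6)
    {a : GL (Fin m ⊕ Fin m) F} (ha : a ∈ wg Y hY h7) : b * a * b⁻¹ = a⁻¹ := by
  obtain ⟨haS, f, hf⟩ := ha
  apply Units.ext
  have h1 : Y⁻¹ = Y ^ 6 := inv_eq_of_mul_eq_one_right (by rw [← pow_succ', h7])
  rw [conj_poly hb hf, ← st_eq_inv haS, hf, st_aeval, st_eq_inv hY, h1, Polynomial.aeval_comp, map_pow, aeval_X]
  rfl

/-- the Cayley transform -/
theorem cayley {g k : F[X]} (hg : aeval Y.1 (g.comp (X ^ 6)) = -aeval Y.1 g)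
    (hk : (1 - aeval Y.1 g) * aeval Y.1 k = 1) : ∃ t : GL (Fin m ⊕ Fin m) F, t ∈ wg Y hY h7 ∧
      t.1 * (1 - aeval Y.1 g) = 1 + aeval Y.1 g := by
  have h1 : Y⁻¹ = Y ^ 6 := inv_eq_of_mul_eq_one_right (by rw [← pow_succ', h7])
  have hst : st (aeval Y.1 g) = -aeval Y.1 g := by
    rw [st_aeval, st_eq_inv hY, h1, ← hg, Polynomial.aeval_comp, map_pow, aeval_X]
    rfl
  obtain ⟨a, ha⟩ : ∃ a, a = aeval Y.1 g := ⟨_, rfl⟩
  obtain ⟨b, hb⟩ : ∃ b, b = aeval Y.1 k := ⟨_, rfl⟩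
  rw [← ha, ← hb] at hk
  rw [← ha] at hst
  have hab : a * b = b * a := by rw [ha, hb, ← map_mul, ← map_mul, mul_comm]
  have hk2 : b * (1 - a) = 1 := by
    rw [mul_sub, mul_one, ← hab]
    rw [sub_mul, one_mul] at hk
    exact hk
  have hkst : st b * (1 + a) = 1 := by
    have h2 := congrArg st hk
    rw [st_mul, st_one, sub_eq_add_neg, st_add, st_one, ← neg_one_smul F a, st_smul, hst, neg_one_smul, neg_neg] at h2
    exact h2
  have hsta : st (1 + a) = 1 - a := by rw [st_add, st_one, hst, sub_eq_add_neg]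
  have hT : st ((1 + a) * b) * ((1 + a) * b) = 1 := by
    rw [st_mul, hsta]
    calc st b * (1 - a) * ((1 + a) * b) = st b * ((1 - a) * (1 + a)) * b := by simp only [mul_assoc]
      _ = st b * ((1 + a) * (1 - a)) * b := by
          congr 2
          noncomm_ring
      _ = st b * (1 + a) * ((1 - a) * b) := by simp only [mul_assoc]
      _ = 1 := by rw [hkst, hk, one_mul]
  have hT2 : ((1 + a) * b) * st ((1 + a) * b) = 1 := mul_eq_one_comm.1 hT
  refine ⟨⟨(1 + a) * b, st ((1 + a) * b), hT2, hT⟩, ⟨mem_spGL_iff.2 hT, (1 + g) * k, ?_⟩, ?_⟩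
  · show (1 + a) * b = _
    rw [map_mul, map_add, map_one, ← ha, ← hb]
  · show (1 + a) * b * (1 - aeval Y.1 g) = _
    rw [← ha, mul_assoc, hk2, mul_one]

end group

end Cfsg.Agent.H901.EP
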